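import Cfsg.Agent.Cit.OneF.Defs
import Cfsg.Agent.Cit.OneK1

/-!
# Theorem F1: the set `RR`

`K1rel` : elements of order 4 of a Sylow 2-subgroup `Q` of `K ∈ Om` are conjugate under `C_K(A)`, `A` a 2-group
centralising `Q`.
`RR Om K Q r` : `r` centralises `Q`, `r² = zz K` and `x r` is the involution of a member, `x ∈ Q` of order 4.
-/

set_option autoImplicit false
set_option linter.style.haveILetI false
set_option linter.unusedSectionVars false

namespace Cfsg.Agent.Cit.OneF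

open Subgroup Cfsg Cit OneBasic

variable {G : Type*} [Group G]

/-- see the head of the file -/
def K1rel (Om : Set (Subgroup G)) : Prop := ∀ K ∈ Om, ∀ Q, Syl Q K → ∀ A : Subgroup G, IsPGroup 2 A →
  A ≤ normalizer (K : Set G) → (∀ a ∈ A, ∀ q ∈ Q, a * q = q * a) → ∀ x ∈ Q, ∀ x1 ∈ Q,
  orderOf x = 4 → orderOf x1 = 4 → ∃ k ∈ K, (∀ a ∈ A, k * a = a * k) ∧ k * x * k⁻¹ = x1

theorem k1rel_of_k1 [Finite G] {Om : Set (Subgroup G)} (h : Hyp Om) (hk : K1 Om) : K1rel Om :=
  fun K hK _ hQ _ hA hAK hAQ _ hx _ hy hx4 hy4 =>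
    h.conj_four_rel hK (hk K hK) hQ hA hAK hAQ hx hy hx4 hy4

/-- see the head of the file -/
structure RR (Om : Set (Subgroup G)) (K Q : Subgroup G) (r : G) : Prop where
  cent : ∀ q ∈ Q, r * q = q * r
  sq : r * r = zz K
  mem : ∀ x ∈ Q, x * x = zz K → ∃ L ∈ Om, zz L = x * r

section

variable [Finite G] {Om : Set (Subgroup G)} {K L M Q T : Subgroup G} {r r1 x y b t c v : G}

theorem sq_comm {z x : G} (hx : x * x = z) : x * z = z * x := by rw [← hx, mul_assoc]

theorem inv_of_sq {z x : G} (hx : x * x = z) (hz : z * z = 1) : x⁻¹ = z * x := by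
  rw [inv_eq_iff_mul_eq_one]
  calc x * (z * x) = (x * z) * x := by group
    _ = z * (x * x) := by rw [sq_comm hx]; group
    _ = 1 := by rw [hx, hz]

theorem inv_sq_of_sq {z x : G} (hx : x * x = z) (hz : z * z = 1) : x⁻¹ * x⁻¹ = z := by
  rw [← mul_inv_rev, hx]
  exact inv_eq_of_mul_eq_one_right hz

theorem orderOf_four (h : One Om) (hK : K ∈ Om) (hx : x * x = zz K) : orderOf x = 4 :=
  GQ.orderOf_of_sq hx (h.hyp.zz_mul hK) (h.hyp.zz_ne hK)

theorem isP_four (h : One Om) (hK : K ∈ Om) (hx : x * x = zz K) : IsPGroup 2 (zpowers x) := by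
  refine IsPGroup.of_card (n := 2) ?_
  rw [Nat.card_zpowers, orderOf_four h hK hx]; norm_num

theorem exists_anti (h : One Om) (hK : K ∈ Om) (hQ : Syl Q K) :
    ∃ x ∈ Q, ∃ y ∈ Q, x * x = zz K ∧ y * y = zz K ∧ y * x = zz K * (x * y) := by
  obtain ⟨c, v, n, hc⟩ := h.hyp.exists_gq hK hQ
  refine ⟨c ^ 2 ^ n, Q.pow_mem hc.c_mem _, v, hc.v_mem, hc.w_sq, hc.v_sq, ?_⟩
  have h1 := hc.conj_pow (2 ^ n)
  rw [inv_of_sq hc.w_sq hc.z_mul, mul_assoc] at h1
  exact h1

theorem zz_mem_syl (h : One Om) (hK : K ∈ Om) (hQ : Syl Q K) : zz K ∈ Q := by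
  obtain ⟨c, v, n, hc⟩ := h.hyp.exists_gq hK hQ
  exact hc.z_mem

namespace RR

theorem comm_z (hr : RR Om K Q r) : r * zz K = zz K * r := sq_comm hr.sq

theorem norm (hr : RR Om K Q r) (h : One Om) (hK : K ∈ Om) : r ∈ normalizer (K : Set G) :=
  h.mem_normalizer hK hr.comm_z

theorem inv_eq (hr : RR Om K Q r) (h : One Om) (hK : K ∈ Om) : r⁻¹ = zz K * r :=
  inv_of_sq hr.sq (h.hyp.zz_mul hK)

/-- one element of order 4 is enough -/
theorem of_one (h : One Om) (hk : K1rel Om) (hK : K ∈ Om) (hQ : Syl Q K) (hr : ∀ q ∈ Q, r * q = q * r)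
    (hr2 : r * r = zz K) (hx : x ∈ Q) (hx2 : x * x = zz K) (hL : L ∈ Om) (hxr : zz L = x * r) :
    RR Om K Q r := by
  refine ⟨hr, hr2, fun y hy hy2 => ?_⟩
  have hrz : r * zz K = zz K * r := sq_comm hr2
  obtain ⟨k, hkK, hkr, hkx⟩ := hk K hK Q hQ (zpowers r) (isP_four h hK hr2)
    (zpowers_le.2 (h.mem_normalizer hK hrz))
    (by
      rintro a ⟨i, rfl⟩ q hq
      exact ((show Commute r q from hr q hq).zpow_left i).eq)
    x hx y hy (orderOf_four h hK hx2) (orderOf_four h hK hy2)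
  refine ⟨cj k L, h.hyp.conj L hL k, ?_⟩
  rw [h.hyp.zz_cj hL, hxr]
  calc k * (x * r) * k⁻¹ = (k * x * k⁻¹) * (k * r * k⁻¹) := by group
    _ = y * r := by rw [hkx, hkr r (mem_zpowers r), mul_inv_cancel_right]

theorem inv (hr : RR Om K Q r) (h : One Om) (hK : K ∈ Om) : RR Om K Q r⁻¹ := by
  refine ⟨fun q hq => ?_, inv_sq_of_sq hr.sq (h.hyp.zz_mul hK), fun x hx hx2 => ?_⟩
  · have := hr.cent q hq
    rw [inv_mul_eq_iff_eq_mul, ← mul_assoc, this, mul_inv_cancel_right]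
  · obtain ⟨L, hL, hL2⟩ := hr.mem x⁻¹ (Q.inv_mem hx) (inv_sq_of_sq hx2 (h.hyp.zz_mul hK))
    refine ⟨L, hL, ?_⟩
    rw [hL2, inv_of_sq hx2 (h.hyp.zz_mul hK), hr.inv_eq h hK]
    calc zz K * x * r = (x * zz K) * r := by rw [sq_comm hx2]
      _ = x * (zz K * r) := by group

/-- product of anticommuting elements -/
theorem mul (hr : RR Om K Q r) (hr1 : RR Om K Q r1) (h : One Om) (hk : K1rel Om) (hK : K ∈ Om)
    (hQ : Syl Q K) (ha : r1 * r = zz K * (r * r1)) : RR Om K Q (r * r1) := by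
  have hzz := h.hyp.zz_mul hK
  obtain ⟨x, hx, y, hy, hx2, hy2, hxy⟩ := exists_anti h hK hQ
  obtain ⟨L, hL, hL2⟩ := hr.mem x hx hx2
  obtain ⟨M, hM, hM2⟩ := hr1.mem y hy hy2
  have hzr := hr.comm_z
  have hzr1 := hr1.comm_z
  have hzx := sq_comm hx2
  have hzy := sq_comm hy2
  have e1 : zz L * zz M = (x * y) * (r * r1) := by
    rw [hL2, hM2]
    calc x * r * (y * r1) = x * (r * y) * r1 := by group
      _ = _ := by rw [hr.cent y hy]; group
  have e2 : zz M * zz L = (x * y) * (r * r1) := by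
    rw [hL2, hM2]
    calc y * r1 * (x * r) = y * (r1 * x) * r := by group
      _ = (y * x) * (r1 * r) := by rw [hr1.cent x hx]; group
      _ = zz K * (x * (y * zz K)) * (r * r1) := by rw [hxy, ha]; group
      _ = zz K * ((x * zz K) * y) * (r * r1) := by rw [hzy]; group
      _ = (zz K * zz K) * (x * y) * (r * r1) := by rw [hzx]; group
      _ = _ := by rw [hzz, one_mul]
  have hLM : L ≠ M := by
    intro hh
    rw [hh, hM2] at hL2
    -- `y r1 = x r`
    have h1 : y = x * (r * r1⁻¹) := by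
      calc y = (y * r1) * r1⁻¹ := by group
        _ = x * (r * r1⁻¹) := by rw [hL2]; group
    have h2 : x⁻¹ * y = r * r1⁻¹ := by rw [h1]; group
    have h3 : (x⁻¹ * y) * x = x * (x⁻¹ * y) := by
      rw [h2]
      have h4 := hr1.cent x hx
      have h5 : r1⁻¹ * x = x * r1⁻¹ := by
        rw [inv_mul_eq_iff_eq_mul, ← mul_assoc, h4, mul_inv_cancel_right]
      calc r * r1⁻¹ * x = r * (r1⁻¹ * x) := by group
        _ = (r * x) * r1⁻¹ := by rw [h5]; group
        _ = x * (r * r1⁻¹) := by rw [hr.cent x hx]; group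
    have h4 : x⁻¹ * (y * x) = y := by
      calc x⁻¹ * (y * x) = (x⁻¹ * y) * x := by group
        _ = x * (x⁻¹ * y) := h3
        _ = y := by group
    rw [hxy] at h4
    have h5 : x⁻¹ * (zz K * (x * y)) = zz K * y := by
      calc x⁻¹ * (zz K * (x * y)) = x⁻¹ * (zz K * x) * y := by group
        _ = x⁻¹ * (x * zz K) * y := by rw [hzx]
        _ = zz K * y := by group
    rw [h5] at h4
    exact h.hyp.zz_ne hK (by simpa using h4)
  obtain ⟨N, hN, hN2⟩ := exists_mul h hL hM hLM (by rw [e1, e2])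
  have hxy2 : (x * y) * (x * y) = zz K := by
    calc (x * y) * (x * y) = x * (y * x) * y := by group
      _ = x * zz K * x * (y * y) := by rw [hxy]; group
      _ = zz K * (x * x) * (y * y) := by rw [hzx]; group
      _ = zz K := by rw [hx2, hy2, hzz, one_mul]
  have hrr2 : (r * r1) * (r * r1) = zz K := by
    calc (r * r1) * (r * r1) = r * (r1 * r) * r1 := by group
      _ = r * zz K * r * (r1 * r1) := by rw [ha]; group
      _ = zz K * (r * r) * (r1 * r1) := by rw [hzr]; group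
      _ = zz K := by rw [hr.sq, hr1.sq, hzz, one_mul]
  refine of_one h hk hK hQ (fun q hq => ?_) hrr2 (Q.mul_mem hx hy) hxy2 hN (by rw [hN2, e1])
  calc r * r1 * q = r * (r1 * q) := by group
    _ = (r * q) * r1 := by rw [hr1.cent q hq]; group
    _ = q * (r * r1) := by rw [hr.cent q hq]; group

/-- conjugation by an element normalising `K` and `Q` -/
theorem conj (hr : RR Om K Q r) (h : One Om) (hQn : t ∈ normalizer (Q : Set G))
    (htz : t * zz K = zz K * t) : RR Om K Q (t * r * t⁻¹) := by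
  refine ⟨fun q hq => ?_, ?_, fun x hx hx2 => ?_⟩
  · have h1 := hr.cent _ (conj_mem_of' hQn hq)
    calc t * r * t⁻¹ * q = t * (r * (t⁻¹ * q * t)) * t⁻¹ := by group
      _ = t * ((t⁻¹ * q * t) * r) * t⁻¹ := by rw [h1]
      _ = q * (t * r * t⁻¹) := by group
  · calc t * r * t⁻¹ * (t * r * t⁻¹) = t * (r * r) * t⁻¹ := by group
      _ = zz K := by rw [hr.sq, htz, mul_inv_cancel_right]
  · have h2 : t⁻¹ * x * t * (t⁻¹ * x * t) = zz K := by
      calc t⁻¹ * x * t * (t⁻¹ * x * t) = t⁻¹ * (x * x) * t := by group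
        _ = t⁻¹ * (zz K * t) := by rw [hx2]; group
        _ = zz K := by rw [← htz]; group
    obtain ⟨L, hL, hL2⟩ := hr.mem _ (conj_mem_of' hQn hx) h2
    refine ⟨cj t L, h.hyp.conj L hL t, ?_⟩
    rw [h.hyp.zz_cj hL, hL2]
    group

end RR

/-- the central involution of a dihedral group generated by two involutions of members -/
theorem exists_zz_mem (h : One Om) (hL : L ∈ Om) (hM : M ∈ Om) (hne : L ≠ M)
    (hp : IsPGroup 2 (zpowers (zz L * zz M))) : ∃ N ∈ Om, zz N ∈ zpowers (zz L * zz M) := by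
  obtain ⟨c, hc⟩ : ∃ c, c = zz L * zz M := ⟨_, rfl⟩
  rw [← hc] at hp ⊢
  have hL2 := h.hyp.zz_mul hL
  have hM2 := h.hyp.zz_mul hM
  have hc1 : c ≠ 1 := by
    intro hh
    apply hne
    apply h.eq_of_zz_eq hL hM
    rw [hh] at hc
    calc zz L = zz L * (zz M * zz M) := by rw [hM2, mul_one]
      _ = (zz L * zz M) * zz M := by group
      _ = zz M := by rw [← hc, one_mul]
  have hinv : zz L * c * (zz L)⁻¹ = c⁻¹ := by
    rw [hc, mul_inv_rev, h.hyp.zz_inv hL, h.hyp.zz_inv hM]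
    calc zz L * (zz L * zz M) * zz L = (zz L * zz L) * (zz M * zz L) := by group
      _ = _ := by rw [hL2, one_mul]
  obtain ⟨k, hk⟩ := hp ⟨c, mem_zpowers c⟩
  have hk' : c ^ 2 ^ k = 1 := congrArg Subtype.val hk
  obtain ⟨j, -, hj2⟩ := (Nat.dvd_prime_pow Nat.prime_two).mp (orderOf_dvd_of_pow_eq_one hk')
  have hj0 : j ≠ 0 := by
    rintro rfl
    rw [pow_zero, orderOf_eq_one_iff] at hj2
    exact hc1 hj2
  obtain ⟨m, rfl⟩ := Nat.exists_eq_succ_of_ne_zero hj0
  rw [Nat.succ_eq_add_one] at hj2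
  rcases Nat.eq_zero_or_pos m with rfl | hm0
  · -- order two: `zz L`, `zz M` commute
    have hcc : c * c = 1 := by
      rw [← pow_two]
      have := pow_orderOf_eq_one c
      rwa [hj2, zero_add, pow_one] at this
    have hcomm : zz L * zz M = zz M * zz L := by
      have h1 : zz L * zz M * (zz L * zz M) = 1 := by rw [← hc, hcc]
      have h2 := inv_eq_of_mul_eq_one_right h1
      rw [mul_inv_rev, h.hyp.zz_inv hL, h.hyp.zz_inv hM] at h2
      exact h2.symm
    obtain ⟨N, hN, hN2⟩ := exists_mul h hL hM hne hcomm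
    exact ⟨N, hN, by rw [hN2, ← hc]; exact mem_zpowers c⟩
  · obtain ⟨i, rfl⟩ := Nat.exists_eq_succ_of_ne_zero hm0.ne'
    rw [Nat.succ_eq_add_one] at hj2
    obtain ⟨e, he⟩ : ∃ e, e = c ^ 2 ^ i := ⟨_, rfl⟩
    obtain ⟨u, hu⟩ : ∃ u, u = e * e := ⟨_, rfl⟩
    have huc : u = c ^ 2 ^ (i + 1) := by rw [hu, he, ← pow_add, ← two_mul, ← pow_succ']
    have hu1 : u ≠ 1 := by
      rw [huc]
      intro hh
      have h1 := Nat.le_of_dvd (by positivity) (orderOf_dvd_of_pow_eq_one hh)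
      rw [hj2] at h1
      have h2 : 2 ^ (i + 1) < 2 ^ (i + 1 + 1) := Nat.pow_lt_pow_right (by norm_num) (by omega)
      omega
    have hu2 : u * u = 1 := by
      rw [huc, ← pow_add, ← two_mul, ← pow_succ', ← hj2, pow_orderOf_eq_one]
    have hie : zz L * e * (zz L)⁻¹ = e⁻¹ := by rw [he, ← _root_.conj_pow, hinv, inv_pow]
    have h3 : e⁻¹ * zz L * e = zz L * u := by
      rw [← hie, hu]; group
    have h4 : zz (cj e⁻¹ L) = zz L * u := by
      rw [h.hyp.zz_cj hL, inv_inv, h3]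
    have huL : zz L * u = u * zz L := by
      have h5 : zz L * u * (zz L)⁻¹ = u := by
        rw [hu]
        calc zz L * (e * e) * (zz L)⁻¹ = (zz L * e * (zz L)⁻¹) * (zz L * e * (zz L)⁻¹) := by group
          _ = (e * e)⁻¹ := by rw [hie]; group
          _ = e * e := by rw [← hu]; exact inv_eq_of_mul_eq_one_right hu2
      rwa [mul_inv_eq_iff_eq_mul] at h5
    have hne' : L ≠ cj e⁻¹ L := by
      intro hh
      rw [← hh] at h4
      exact hu1 (by simpa using h4)
    have h6 : zz L * zz (cj e⁻¹ L) = zz (cj e⁻¹ L) * zz L := by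
      rw [h4]
      calc zz L * (zz L * u) = zz L * (u * zz L) := by rw [huL]
        _ = zz L * u * zz L := by group
    obtain ⟨N, hN, hN2⟩ := exists_mul h hL (h.hyp.conj L hL e⁻¹) hne' h6
    refine ⟨N, hN, ?_⟩
    rw [hN2, h4, ← mul_assoc, hL2, one_mul, huc]
    exact pow_mem (mem_zpowers c) _

/-- powers of a 2-element whose cyclic group contains the involution `z` -/
theorem exists_root {c z : G} (hz : z * z = 1) (hz1 : z ≠ 1) (hzc : z ∈ zpowers c)
    (hp : IsPGroup 2 (zpowers c)) :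
    c = z ∨ (c * c = z) ∨ ∃ d ∈ zpowers c, (d * d) * (d * d) = z := by
  have hc1 : c ≠ 1 := by
    rintro rfl
    rw [zpowers_one_eq_bot, mem_bot] at hzc
    exact hz1 hzc
  obtain ⟨k, hk⟩ := hp ⟨c, mem_zpowers c⟩
  have hk' : c ^ 2 ^ k = 1 := congrArg Subtype.val hk
  obtain ⟨j, -, hj2⟩ := (Nat.dvd_prime_pow Nat.prime_two).mp (orderOf_dvd_of_pow_eq_one hk')
  have hj0 : j ≠ 0 := by
    rintro rfl
    rw [pow_zero, orderOf_eq_one_iff] at hj2
    exact hc1 hj2
  obtain ⟨m, rfl⟩ := Nat.exists_eq_succ_of_ne_zero hj0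
  rw [Nat.succ_eq_add_one] at hj2
  -- `z = c ^ 2 ^ m`
  have hz2 : c ^ 2 ^ m = z := by
    obtain ⟨i, hi⟩ := hzc
    have hi' : c ^ i = z := hi
    have h1 : c ^ (i + i) = 1 := by rw [zpow_add, hi', hz]
    have h2 : (2 : ℤ) ^ (m + 1) ∣ i + i := by
      have := orderOf_dvd_iff_zpow_eq_one.2 h1
      rw [hj2] at this
      exact_mod_cast this
    have h3 : (2 : ℤ) ^ m ∣ i := by
      rw [pow_succ, mul_comm, ← two_mul] at h2
      exact (mul_dvd_mul_iff_left (by norm_num)).1 h2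
    obtain ⟨e, rfl⟩ := h3
    have h4 : c ^ ((2 : ℤ) ^ m * e) = (c ^ 2 ^ m) ^ e := by
      rw [zpow_mul]; congr 1; rw [← zpow_natCast]; congr 1
    have h5 : (c ^ 2 ^ m) * (c ^ 2 ^ m) = 1 := by
      rw [← pow_add, ← two_mul, ← pow_succ', ← hj2, pow_orderOf_eq_one]
    rw [h4] at hi'
    rcases Int.even_or_odd e with ⟨f, rfl⟩ | ⟨f, rfl⟩
    · exfalso
      apply hz1
      rw [← hi', zpow_add, ← (Commute.refl (c ^ 2 ^ m)).mul_zpow, h5, one_zpow]
    · rw [← hi', zpow_add, two_mul, zpow_add, ← (Commute.refl (c ^ 2 ^ m)).mul_zpow, h5, one_zpow,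
        one_mul, zpow_one]
  rcases Nat.eq_zero_or_pos m with rfl | hm0
  · left
    simpa using hz2
  obtain ⟨i, rfl⟩ := Nat.exists_eq_succ_of_ne_zero hm0.ne'
  rw [Nat.succ_eq_add_one] at hz2
  rcases Nat.eq_zero_or_pos i with rfl | hi0
  · right; left
    rw [← hz2, ← pow_two]; norm_num
  obtain ⟨l, rfl⟩ := Nat.exists_eq_succ_of_ne_zero hi0.ne'
  right; right
  refine ⟨c ^ 2 ^ l, pow_mem (mem_zpowers c) _, ?_⟩
  rw [← hz2, ← pow_add, ← pow_add]
  congr 1
  rw [Nat.succ_eq_add_one]; ring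

/-- an element inverting `c` inverts all its powers -/
theorem inv_zpowers {a c v : G} (h : a * c * a⁻¹ = c⁻¹) (hv : v ∈ zpowers c) : a * v * a⁻¹ = v⁻¹ := by
  obtain ⟨i, rfl⟩ := hv
  change a * c ^ i * a⁻¹ = (c ^ i)⁻¹
  rw [← conj_zpow, h, inv_zpow]

theorem comm_zpowers {a c v : G} (h : a * c = c * a) (hv : v ∈ zpowers c) : a * v = v * a := by
  obtain ⟨i, rfl⟩ := hv
  exact ((show Commute a c from h).zpow_right i).eq

/-- **(R1)** -/
theorem RR.dich (hr : RR Om K Q r) (hr1 : RR Om K Q r1) (h : One Om) (hk : K1rel Om) (hK : K ∈ Om)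
    (hQ : Syl Q K) (hT : IsPGroup 2 T) (hrT : r ∈ T) (hr1T : r1 ∈ T) :
    r1 = r ∨ r1 = r⁻¹ ∨ ∃ v ∈ zpowers (zz K * (r * r1)), v * v = zz K ∧ RR Om K Q v ∧
      r * v * r⁻¹ = v⁻¹ ∧ r1 * v * r1⁻¹ = v⁻¹ := by
  have hzz := h.hyp.zz_mul hK
  obtain ⟨x, hx, y, hy, hx2, hy2, hxy⟩ := exists_anti h hK hQ
  obtain ⟨L, hL, hL2⟩ := hr.mem x hx hx2
  obtain ⟨M, hM, hM2⟩ := hr1.mem x hx hx2
  have hzr := hr.comm_z
  have hzr1 := hr1.comm_z
  by_cases hLM : L = M
  · left
    rw [hLM, hM2] at hL2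
    exact mul_left_cancel hL2
  obtain ⟨c, hc⟩ : ∃ c, c = zz L * zz M := ⟨_, rfl⟩
  have hc' : c = zz K * (r * r1) := by
    rw [hc, hL2, hM2]
    calc x * r * (x * r1) = x * (r * x) * r1 := by group
      _ = (x * x) * (r * r1) := by rw [hr.cent x hx]; group
      _ = _ := by rw [hx2]
  have hzT : zz K ∈ T := by rw [← hr.sq]; exact T.mul_mem hrT hrT
  have hcT : c ∈ T := by rw [hc']; exact T.mul_mem hzT (T.mul_mem hrT hr1T)
  have hcp : IsPGroup 2 (zpowers c) := isPGroup_zpowers_of_mem hT hcT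
  have hcQ : ∀ q ∈ Q, c * q = q * c := by
    intro q hq
    have hzq : zz K * q = q * zz K := (h.hyp.comm_zz hK (le_normalizer (hQ.1 hq))).symm
    rw [hc']
    calc zz K * (r * r1) * q = zz K * r * (r1 * q) := by group
      _ = zz K * (r * q) * r1 := by rw [hr1.cent q hq]; group
      _ = (zz K * q) * r * r1 := by rw [hr.cent q hq]; group
      _ = q * (zz K * (r * r1)) := by rw [hzq]; group
  obtain ⟨N, hN, hNc⟩ := exists_zz_mem h hL hM hLM (by rw [← hc]; exact hcp)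
  rw [← hc] at hNc
  have hNK : N = K := by
    by_contra hne
    apply not_perp h hK hN (Ne.symm hne)
    refine ⟨Q, hQ, fun q hq => ?_⟩
    exact (comm_zpowers (hcQ q hq).symm hNc).symm
  rw [hNK] at hNc
  have hLinv : zz L * c * (zz L)⁻¹ = c⁻¹ := by
    rw [hc, mul_inv_rev, h.hyp.zz_inv hL, h.hyp.zz_inv hM]
    calc zz L * (zz L * zz M) * zz L = (zz L * zz L) * (zz M * zz L) := by group
      _ = _ := by rw [h.hyp.zz_mul hL, one_mul]
  have hMinv : zz M * c * (zz M)⁻¹ = c⁻¹ := by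
    rw [hc, mul_inv_rev, h.hyp.zz_inv hL, h.hyp.zz_inv hM]
    calc zz M * (zz L * zz M) * zz M = zz M * zz L * (zz M * zz M) := by group
      _ = _ := by rw [h.hyp.zz_mul hM, mul_one]
  have hcx : c * x = x * c := hcQ x hx
  have hrc : r * c * r⁻¹ = c⁻¹ := by
    have h1 : x⁻¹ * c⁻¹ * x = c⁻¹ := by
      have : c⁻¹ * x = x * c⁻¹ := by
        rw [inv_mul_eq_iff_eq_mul, ← mul_assoc, hcx, mul_inv_cancel_right]
      rw [mul_assoc, this, inv_mul_cancel_left]
    rw [hL2] at hLinv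
    rw [← h1, ← hLinv]; group
  have hrc1 : r1 * c * r1⁻¹ = c⁻¹ := by
    have h1 : x⁻¹ * c⁻¹ * x = c⁻¹ := by
      have : c⁻¹ * x = x * c⁻¹ := by
        rw [inv_mul_eq_iff_eq_mul, ← mul_assoc, hcx, mul_inv_cancel_right]
      rw [mul_assoc, this, inv_mul_cancel_left]
    rw [hM2] at hMinv
    rw [← h1, ← hMinv]; group
  rcases exists_root hzz (h.hyp.zz_ne hK) hNc hcp with h1 | h1 | ⟨d, hd, hd4⟩
  · right; left
    rw [hc'] at h1
    have h2 : r * r1 = 1 := by simpa using h1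
    exact (inv_eq_of_mul_eq_one_right h2).symm
  · right; right
    rw [← hc']
    refine ⟨c, mem_zpowers c, h1, ?_, hrc, hrc1⟩
    have hrinv := hr.inv_eq h hK
    have hcinv : c⁻¹ = zz K * c := inv_of_sq h1 hzz
    have hcz : c * zz K = zz K * c := sq_comm h1
    have e1 : r1 = r * c := by
      calc r1 = r⁻¹ * (zz K)⁻¹ * (zz K * (r * r1)) := by group
        _ = zz K * r * zz K * c := by rw [hrinv, h.hyp.zz_inv hK, ← hc']
        _ = zz K * (r * zz K) * c := by group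
        _ = (zz K * zz K) * r * c := by rw [hzr]; group
        _ = r * c := by rw [hzz, one_mul]
    have e2 : r * c = c⁻¹ * r := by rw [← hrc]; group
    have e3 : r1 * r = zz K * (r * r1) := by
      rw [← hc', e1]
      calc r * c * r = c⁻¹ * (r * r) := by rw [e2]; group
        _ = zz K * (c * zz K) := by rw [hcinv, hr.sq]; group
        _ = (zz K * zz K) * c := by rw [hcz]; group
        _ = c := by rw [hzz, one_mul]
    have h2 := (hr.mul hr1 h hk hK hQ e3).inv h hK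
    have h3 : (r * r1)⁻¹ = c := by
      have : r * r1 = c⁻¹ := by
        calc r * r1 = (zz K * zz K) * (r * r1) := by rw [hzz, one_mul]
          _ = zz K * (zz K * (r * r1)) := by group
          _ = c⁻¹ := by rw [← hc', hcinv]
      rw [this, inv_inv]
    rwa [h3] at h2
  · right; right
    rw [← hc']
    have hdc := inv_zpowers hrc hd
    have hdd : d * d ∈ zpowers c := mul_mem hd hd
    refine ⟨d * d, hdd, hd4, ?_, inv_zpowers hrc hdd, inv_zpowers hrc1 hdd⟩
    have hdQ : ∀ q ∈ Q, d⁻¹ * q = q * d⁻¹ := by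
      intro q hq
      exact (comm_zpowers (hcQ q hq).symm (inv_mem hd)).symm
    have hzQ := zz_mem_syl h hK hQ
    have h2 := hr.conj (t := d⁻¹) h (mem_normalizer_of_cent hdQ) (hdQ _ hzQ)
    obtain ⟨v, hv⟩ : ∃ v, v = d * d := ⟨_, rfl⟩
    rw [← hv] at hd4 ⊢
    have e1 : d⁻¹ * r * d⁻¹⁻¹ = r * v := by
      rw [inv_inv, hv]
      calc d⁻¹ * r * d = (r * d * r⁻¹) * r * d := by rw [hdc]
        _ = r * (d * d) := by group
    rw [e1] at h2
    have hrv : r * v = v⁻¹ * r := by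
      rw [← inv_zpowers hrc (by rw [hv]; exact hdd : v ∈ zpowers c)]; group
    have hvinv : v⁻¹ = zz K * v := inv_of_sq hd4 hzz
    have hvz : v * zz K = zz K * v := sq_comm hd4
    have e2 : r * v * r = zz K * (r * (r * v)) := by
      calc r * v * r = v⁻¹ * (r * r) := by rw [hrv]; group
        _ = zz K * (v * zz K) := by rw [hvinv, hr.sq]; group
        _ = zz K * (zz K * v) := by rw [hvz]
        _ = zz K * ((r * r) * v) := by rw [hr.sq]
        _ = _ := by group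
    have h3 := (hr.mul h2 h hk hK hQ e2).inv h hK
    have e3 : (r * (r * v))⁻¹ = v := by
      have : r * (r * v) = v⁻¹ := by
        calc r * (r * v) = (r * r) * v := by group
          _ = v⁻¹ := by rw [hr.sq, hvinv]
      rw [this, inv_inv]
    rwa [e3] at h3

end

end Cfsg.Agent.Cit.OneF
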