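import Cfsg.Agent.Cit.OneL1
import Cfsg.Agent.Cit.OneF.RR

/-!
# Theorem F1: Lemma `L1` in the form `OneF.L1`
-/

set_option autoImplicit false

namespace Cfsg.Agent.Cit.OneF

open Subgroup Cfsg Cit OneBasic

variable {G : Type*} [Group G] [Finite G] {Om : Set (Subgroup G)}

theorem perp_of (h : One Om) {b : G} (hb : IsPGroup 2 (zpowers b)) {K : Subgroup G} (hK : K ∈ Om)
    (hp : Perp b K) : Cit.Perp b K := ⟨hb, hp.mem_normalizer h hK, hp⟩

theorem pThree (h : One Om) {b : G} (hb : IsPGroup 2 (zpowers b)) (h3 : P3 Om b) : PThree Om b := by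
  intro K hK L hL hne hc hbK hbL
  rcases h3 K hK L hL hne hc hbK.2.2 (h.hyp.comm_zz hL hbL) with h1 | h1
  · exact Or.inl (perp_of h hb hL h1)
  · right
    have h2 : zz K * b = b * zz K := (h.perp_comm hK hbK).symm
    have h4 := exists_two_of_commute (isPGroup_zpowers_zz h.hyp hK) hb h2
    refine ⟨isPGroup_zpowers_of_mem h4 (mul_mem (mem_sup_left (mem_zpowers _))
      (mem_sup_right (mem_zpowers _))), ?_, h1⟩
    exact mul_mem (h.mem_normalizer hL hc) hbL

/-- **Lemma L1** -/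
theorem l1 (h : One Om) (hk : K1rel Om) : L1 Om := by
  intro b hb h3 K hK T hT L hL hbK hbT hKT hcKT hbL hcKL
  by_cases hKL : K = L
  · rw [← hKL]; exact hbK
  exact (h.L1 hk (pThree h hb h3) hK hT hL hKT hKL hcKT hcKL (perp_of h hb hK hbK) (perp_of h hb hT hbT)
    (h.mem_normalizer hL hbL)).2.2

end Cfsg.Agent.Cit.OneF
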