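import Cfsg.Agent.Cit.OneF.End
import Cfsg.Agent.Cit.OneF.LOne
import Cfsg.Agent.Cit.OneF.RR
import Cfsg.Agent.Cit.OneK1
import Cfsg.Agent.Cit.Types

/-!
# Classical involutions, `|Om(S)| = 1`: THEOREM F1, final form

* `f1`: no nontrivial 2-element `b` is perpendicular to two different members with commuting involutions;
* `OPair.eq_one`: for a pair of different members with commuting involutions (`OPair`), an element of `T`
  centralising both Sylow 2-subgroups is trivial (the hypothesis `hF` of `OneEndGlue`);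
* `h1173_of`: S1173 gives `H1173`; `k1_of_tyTwo`, `k1_of_type`: the property `K1`.
-/

set_option autoImplicit false

namespace Cfsg.Agent.Cit.OneF

open Subgroup Cfsg Cit OneBasic

variable {G : Type*} [Group G] {Om : Set (Subgroup G)}

/-- `K1` for groups generated by their elements of odd order -/
theorem k1_of_tyTwo [Finite G] (h : Hyp Om) (hT : ∀ K ∈ Om, TyTwo K) : K1 Om :=
  fun K hK _ hx _ hy hx4 hy4 => h.conj_four hK (hT K hK) hx hy hx4 hy4

/-- `K1` for the types of S1309, S1310 -/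
theorem k1_of_type [Finite G] (h : Hyp Om) (hT : ∀ K ∈ Om, IsType K) : K1 Om :=
  k1_of_tyTwo h fun K hK => (hT K hK).tyTwo

/-- **THEOREM F1** -/
theorem f1 [Finite G] (h : One Om) (hK1 : K1 Om) (h1173 : H1173 G)
    (hN : ∀ N : Subgroup G, N.Normal → ¬ Group.IsSolvable N → centralizer (N : Set G) = ⊥) {b : G}
    (hb : IsPGroup 2 (zpowers b)) (hw : WW Om b) : b = 1 :=
  eq_one_of_WW h hK1 (l1 h (k1rel_of_k1 h.hyp hK1)) h1173 hN hb hw

/-- **THEOREM F1** for pairs: `F = 1` -/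
theorem eq_one_of_oPair [Finite G] (h : One Om) (hK1 : K1 Om) (h1173 : H1173 G)
    (hN : ∀ N : Subgroup G, N.Normal → ¬ Group.IsSolvable N → centralizer (N : Set G) = ⊥)
    {K L T Q Q' : Subgroup G} (p : OPair Om K L T Q Q') {a : G} (ha : a ∈ T)
    (h1 : ∀ u ∈ Q, a * u = u * a) (h2 : ∀ u ∈ Q', a * u = u * a) : a = 1 :=
  f1 h hK1 h1173 hN (isPGroup_zpowers_of_mem p.tp ha)
    ⟨K, p.hK, L, p.hL, p.ne, p.comm, ⟨Q, p.hQ, h1⟩, ⟨Q', p.hQ', h2⟩⟩

end Cfsg.Agent.Cit.OneF
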