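import Cfsg.Agent.Cit.OneF.Conf
import Cfsg.Agent.Cit.OneK1
import Cfsg.Agent.TwoFusion.PerfCore

/-!
# Theorem F1

`|Om(S)| = 1`, the elements of order 4 of the members conjugate: no 2-element `≠ 1` centralises Sylow
2-subgroups of two commuting members, provided `O(G) = 1` and every nonsolvable normal subgroup has trivial
centraliser.
-/

set_option autoImplicit false
set_option linter.style.haveILetI false
set_option linter.unusedSectionVars false

namespace Cfsg.Agent.Cit.OneF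

open Subgroup Cfsg Cit OneBasic

variable {G : Type*} [Group G] [Finite G] {Om : Set (Subgroup G)}

namespace Conf

variable {X T V O K Q : Subgroup G}

/-- the elements inducing the transvections with centre `z` -/
theorem full_z (c : Conf Om X T V O K Q) {b d : G} (hb : b ∈ c.ZO) (hd : d ∈ c.ZO) (hb1 : b ≠ 1)
    (hbz : b ≠ zz K) (hd1 : d ≠ 1) (hdz : d ≠ zz K) (hdb : d ≠ b) (hdzb : d ≠ zz K * b) :
    ∃ q ∈ Q, q * b * q⁻¹ = b ∧ q * d * q⁻¹ = d * zz K := by
  obtain ⟨x, y, n, hc⟩ := c.one.hyp.exists_gq c.hK c.hQ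
  have hx : x ∈ Q := hc.c_mem
  have hy : y ∈ Q := hc.v_mem
  have hQ : ∀ v ∈ c.ZO, x * v * x⁻¹ = v → y * v * y⁻¹ = v → v = 1 ∨ v = zz K := by
    intro v hv hxv hyv
    rw [mul_inv_eq_iff_eq_mul] at hxv hyv
    apply c.eq_of_cent hv
    intro q hq
    exact mem_centralizer_singleton_iff.1
      (hc.le_of_mem (H := centralizer {v}) (mem_centralizer_singleton_iff.2 hxv) hy hc.v_not_mem
        (mem_centralizer_singleton_iff.2 hyv) hq)
  have hz1 : ∀ q ∈ Q, q * zz K * q⁻¹ = zz K := fun q hq => by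
    rw [c.comm_z (c.hQT hq), mul_inv_cancel_right]
  have hbd : b * d ≠ 1 ∧ b * d ≠ zz K := by
    constructor
    · intro h1
      apply hdb
      calc d = b * b * d := by rw [c.sq hb, one_mul]
        _ = b * (b * d) := by group
        _ = b := by rw [h1, mul_one]
    · intro h1
      apply hdzb
      calc d = b * b * d := by rw [c.sq hb, one_mul]
        _ = b * (b * d) := by group
        _ = zz K * b := by rw [h1, c.comm hb c.z_mem]
  have hprod : ∀ q ∈ Q, q * b * q⁻¹ = b * zz K → q * d * q⁻¹ = d * zz K → q * (b * d) * q⁻¹ = b * d := by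
    intro q _ h1 h2
    calc q * (b * d) * q⁻¹ = (q * b * q⁻¹) * (q * d * q⁻¹) := by group
      _ = b * (zz K * d) * zz K := by rw [h1, h2]; group
      _ = b * d * (zz K * zz K) := by rw [← c.comm hd c.z_mem]; group
      _ = b * d := by rw [c.zz_one, mul_one]
  have hprod' : ∀ q ∈ Q, q * b * q⁻¹ = b → q * d * q⁻¹ = d → q * (b * d) * q⁻¹ = b * d := by
    intro q _ h1 h2
    calc q * (b * d) * q⁻¹ = (q * b * q⁻¹) * (q * d * q⁻¹) := by group
      _ = b * d := by rw [h1, h2]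
  have hxy : ∀ v : G, x * y * v * (x * y)⁻¹ = x * (y * v * y⁻¹) * x⁻¹ := by intro v; group
  have hxz : ∀ v : G, x * (v * zz K) * x⁻¹ = (x * v * x⁻¹) * zz K := by
    intro v
    calc x * (v * zz K) * x⁻¹ = (x * v * x⁻¹) * (x * zz K * x⁻¹) := by group
      _ = _ := by rw [hz1 x hx]
  have hfin : ∀ v ∈ c.ZO, v ≠ 1 ∧ v ≠ zz K → x * v * x⁻¹ = v → y * v * y⁻¹ = v → False := by
    intro v hv hne h1 h2
    rcases hQ v hv h1 h2 with h3 | h3
    · exact hne.1 h3
    · exact hne.2 h3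
  have hbdm : b * d ∈ c.ZO := c.ZO.mul_mem hb hd
  rcases c.dich hx hb with xb | xb
  · rcases c.dich hy hb with yb | yb
    · exact (hfin b hb ⟨hb1, hbz⟩ xb yb).elim
    · rcases c.dich hx hd with xd | xd
      · rcases c.dich hy hd with yd | yd
        · exact (hfin d hd ⟨hd1, hdz⟩ xd yd).elim
        · exact (hfin _ hbdm hbd (hprod' x hx xb xd) (hprod y hy yb yd)).elim
      · exact ⟨x, hx, xb, xd⟩
  · rcases c.dich hy hb with yb | yb
    · rcases c.dich hy hd with yd | yd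
      · rcases c.dich hx hd with xd | xd
        · exact (hfin d hd ⟨hd1, hdz⟩ xd yd).elim
        · exact (hfin _ hbdm hbd (hprod x hx xb xd) (hprod' y hy yb yd)).elim
      · exact ⟨y, hy, yb, yd⟩
    · have hxyb : x * y * b * (x * y)⁻¹ = b := by
        rw [hxy, yb, hxz, xb, mul_assoc, c.zz_one, mul_one]
      rcases c.dich hx hd with xd | xd
      · rcases c.dich hy hd with yd | yd
        · exact (hfin d hd ⟨hd1, hdz⟩ xd yd).elim
        · exact ⟨x * y, Q.mul_mem hx hy, hxyb, by rw [hxy, yd, hxz, xd]⟩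
      · rcases c.dich hy hd with yd | yd
        · exact ⟨x * y, Q.mul_mem hx hy, hxyb, by rw [hxy, yd, xd]⟩
        · exact (hfin _ hbdm hbd (hprod x hx xb xd) (hprod y hy yb yd)).elim

theorem full (c : Conf Om X T V O K Q) : Full c.ZO X := by
  intro e he b hb d hd he1 hb1 hbe hd1 hde hdb hdeb
  obtain ⟨n, hnX, hn, hne⟩ := c.trans he he1
  have hconj : ∀ v ∈ c.ZO, n⁻¹ * v * n ∈ c.ZO := by
    intro v hv
    have := c.conj_ZO (inv_mem hn) hv
    simpa using this
  have hinj : ∀ v w : G, n⁻¹ * v * n = n⁻¹ * w * n → v = w := by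
    intro v w h
    calc v = n * (n⁻¹ * v * n) * n⁻¹ := by group
      _ = n * (n⁻¹ * w * n) * n⁻¹ := by rw [h]
      _ = w := by group
  have hez : n⁻¹ * e * n = zz K := by rw [← hne]; group
  have h1' : ∀ v, v ≠ 1 → n⁻¹ * v * n ≠ 1 := fun v hv h => hv (hinj v 1 (by rw [h]; group))
  obtain ⟨q, hq, hqb, hqd⟩ := c.full_z (hconj b hb) (hconj d hd) (h1' b hb1)
    (fun h => hbe (hinj _ _ (h.trans hez.symm))) (h1' d hd1) (fun h => hde (hinj _ _ (h.trans hez.symm)))
    (fun h => hdb (hinj _ _ h)) (fun h => hdeb (hinj _ _ (by rw [h, ← hez]; group)))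
  refine ⟨n * q * n⁻¹, X.mul_mem (X.mul_mem hnX (c.hTX (c.hQT hq))) (X.inv_mem hnX), ?_, ?_, ?_⟩
  · calc n * q * n⁻¹ * e * (n * q * n⁻¹)⁻¹ = n * (q * (n⁻¹ * e * n) * q⁻¹) * n⁻¹ := by group
      _ = n * (n⁻¹ * e * n) * n⁻¹ := by
          rw [hez, c.comm_z (c.hQT hq), mul_inv_cancel_right]
      _ = e := by group
  · calc n * q * n⁻¹ * b * (n * q * n⁻¹)⁻¹ = n * (q * (n⁻¹ * b * n) * q⁻¹) * n⁻¹ := by group
      _ = n * (n⁻¹ * b * n) * n⁻¹ := by rw [hqb]
      _ = b := by group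
  · calc n * q * n⁻¹ * d * (n * q * n⁻¹)⁻¹ = n * (q * (n⁻¹ * d * n) * q⁻¹) * n⁻¹ := by group
      _ = n * (n⁻¹ * d * n * (n⁻¹ * e * n)) * n⁻¹ := by rw [hqd, hez]
      _ = d * e := by group

theorem not_solvable (c : Conf Om X T V O K Q) : ¬ Group.IsSolvable X := by
  obtain ⟨b, hb, hb1, hbz⟩ := c.exists_b
  obtain ⟨x, y, n, hc⟩ := c.one.hyp.exists_gq c.hK c.hQ
  have hx : x ∈ Q := hc.c_mem
  have hy : y ∈ Q := hc.v_mem
  have hxz : x ∉ zpowers (zz K) := by
    intro h1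
    apply hc.c_sq_ne
    obtain ⟨k, hk⟩ := h1
    change zz K ^ k = x at hk
    rw [← hk, ← (Commute.refl (zz K)).mul_zpow, c.zz_one, one_zpow]
  have hyz : y ∉ zpowers (zz K) := by
    intro h1
    apply hc.v_not_mem
    have h2 : zpowers (zz K) ≤ zpowers x := by
      rw [zpowers_le, ← hc.z_eq]; exact pow_mem (mem_zpowers x) _
    exact h2 h1
  have hxyz : x * y ∉ zpowers (zz K) := by
    intro h1
    apply hc.v_not_mem
    have h2 : zpowers (zz K) ≤ zpowers x := by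
      rw [zpowers_le, ← hc.z_eq]; exact pow_mem (mem_zpowers x) _
    have h3 := (zpowers x).mul_mem ((zpowers x).inv_mem (mem_zpowers x)) (h2 h1)
    rwa [inv_mul_cancel_left] at h3
  have hz1 : ∀ q ∈ Q, q * zz K * q⁻¹ = zz K := fun q hq => by
    rw [c.comm_z (c.hQT hq), mul_inv_cancel_right]
  -- an element `q ∉ ⟨z⟩` of `Q` centralising `b`
  obtain ⟨q, hq, hqz, hqb⟩ : ∃ q ∈ Q, q ∉ zpowers (zz K) ∧ q * b * q⁻¹ = b := by
    rcases c.dich hx hb with xb | xb
    · exact ⟨x, hx, hxz, xb⟩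
    · rcases c.dich hy hb with yb | yb
      · exact ⟨y, hy, hyz, yb⟩
      · refine ⟨x * y, Q.mul_mem hx hy, hxyz, ?_⟩
        calc x * y * b * (x * y)⁻¹ = x * (y * b * y⁻¹) * x⁻¹ := by group
          _ = (x * b * x⁻¹) * (x * zz K * x⁻¹) := by rw [yb]; group
          _ = b := by rw [hz1 x hx, xb, mul_assoc, c.zz_one, mul_one]
  have hq1 : q ≠ 1 := by rintro rfl; exact hqz (one_mem _)
  have hqz' : q ≠ zz K := by rintro rfl; exact hqz (mem_zpowers _)
  obtain ⟨d, hd, hqd⟩ := c.not_cent hq hq1 hqz'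
  have hqzz : q * zz K = zz K * q := c.comm_z (c.hQT hq)
  have hqb' : q * b = b * q := by rwa [mul_inv_eq_iff_eq_mul] at hqb
  refine c.full.not_solvable (fun v hv => c.sq hv) c.z_mem hb hd (c.one.hyp.zz_ne c.hK) hb1 hbz ?_ ?_ ?_ ?_
  · rintro rfl; exact hqd (by rw [one_mul, mul_one])
  · rintro rfl; exact hqd hqzz
  · rintro rfl; exact hqd hqb'
  · rintro rfl
    apply hqd
    calc q * (zz K * b) = (q * zz K) * b := by group
      _ = zz K * (q * b) := by rw [hqzz]; group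
      _ = zz K * b * q := by rw [hqb']; group

end Conf

/-- **Lemma L4**: `C_G(B(S))` is not solvable -/
theorem Top.not_solvable {S K0 K1' : Subgroup G} (t : Top Om S K0 K1') (h : One Om) (hK1 : K1 Om)
    (hL1 : L1 Om) : ¬ Group.IsSolvable (centralizer (BB h t.two : Set G)) := by
  intro hs
  obtain ⟨X, hX⟩ : ∃ X, X = centralizer (BB h t.two : Set G) := ⟨_, rfl⟩
  have hz0 : zz K0 ∈ X := by rw [hX]; exact t.zz_mem h t.h0 t.z0
  have hz1 : zz K1' ∈ X := by rw [hX]; exact t.zz_mem h t.h1 t.z1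
  obtain ⟨Q, hQ, hQX⟩ := t.exists_syl_cent h hL1 t.h0 (by rw [← hX]; exact hz0)
  rw [← hX] at hs hQX
  obtain ⟨T, hT, hQT⟩ := exists_syl_ge hQ.2.1 hQX
  have hTK : T ≤ normalizer (K0 : Set G) :=
    h.le_normalizer_self hT.2.1 (mem_OmS_of_le t.h0 hQ hQT)
  have hQe : Q = K0 ⊓ T := syl_eq_of_le hQ (hT.2.1.to_le inf_le_right) inf_le_left (le_inf hQ.1 hQT)
  obtain ⟨V, O, hVT, hTV, hO, hOX, hdec, hXO, hcen⟩ := exists_constrained hs hT
  refine Conf.not_solvable (Om := Om) (X := X) (T := T) (V := V) (O := O) (K := K0) (Q := Q) ?_ hs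
  refine ⟨h, t.h0, hQ, hT.1, hQT, ?_, hVT, hTV, hO, hXO, hdec, hcen, ?_, ?_, ?_⟩
  · intro x hx
    rw [hQe, mem_normalizer_iff_cj, cj_inf, mem_normalizer_iff_cj.1 (hTK hx),
      mem_normalizer_iff_cj.1 (le_normalizer hx)]
  · intro L hL hzL
    obtain ⟨R, hR, hRX⟩ := t.exists_syl_cent h hL1 hL (by rw [← hX]; exact hzL)
    rw [← hX] at hRX
    obtain ⟨T', hT', hRT'⟩ := exists_syl_ge hR.2.1 hRX
    obtain ⟨x, hx, hxT⟩ := hT'.exists_conj hT
    have h1 : cj x L = K0 := by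
      refine h.one T hT.2.1 _ (mem_OmS_of_le (h.hyp.conj L hL x) (hR.cj x) ?_) K0 (mem_OmS_of_le t.h0 hQ hQT)
      rw [← hxT]; exact cj_mono x hRT'
    refine ⟨x⁻¹, X.inv_mem hx, ?_⟩
    rw [← h1, h.hyp.zz_cj hL]; group
  · intro x hx y hy hx4 hy4
    have h1 : BB h t.two ≤ normalizer (K0 : Set G) := fun b hb =>
      (hb.2 _ t.h0 t.z0).mem_normalizer h t.h0
    obtain ⟨k, -, hk, hkx⟩ := h.hyp.conj_four_rel t.h0 (hK1 K0 t.h0) hQ (t.two.to_le (BB_le h t.two)) h1
      (by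
        intro a ha q hq
        have h2 := hQX hq
        rw [hX, mem_centralizer_iff] at h2
        exact h2 a ha) hx hy hx4 hy4
    refine ⟨k, ?_, hkx⟩
    rw [hX, mem_centralizer_iff]
    intro a ha
    exact (hk a ha).symm
  · exact ⟨K1', t.h1, t.ne, hz1, t.cen _ t.z1⟩

/-- the hypothesis supplied by S1173 -/
def H1173 (G : Type*) [Group G] [Finite G] : Prop :=
  ∀ (S : Sylow 2 G) (T : Subgroup G), IsStronglyClosed T (S : Subgroup G) →
    ((⨅ n : ℕ, derivedSeries ↥(centralizer (T : Set G)) n).map (centralizer (T : Set G)).subtype).Normal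

/-- **THEOREM F1** -/
theorem eq_one_of_WW (h : One Om) (hK1 : K1 Om) (hL1 : L1 Om) (h1173 : H1173 G)
    (hN : ∀ N : Subgroup G, N.Normal → ¬ Group.IsSolvable N → centralizer (N : Set G) = ⊥) {b : G}
    (hb : IsPGroup 2 (zpowers b)) (hw : WW Om b) : b = 1 := by
  haveI : Fact (Nat.Prime 2) := ⟨Nat.prime_two⟩
  obtain ⟨K, hK, L, hL, hne, hc, -, -⟩ := id hw
  obtain ⟨S, K0, K1', t⟩ := exists_Top h hK hL hne hc
  refine t.eq_one_of_WW h hL1 ?_ hb hw
  obtain ⟨P, hP⟩ : ∃ P : Sylow 2 G, (P : Subgroup G) = S := by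
    refine ⟨t.two.toSylow ?_, rfl⟩
    have := t.syl.2.2
    rwa [relIndex_top_right] at this
  have h1 := h1173 P (BB h t.two) (by rw [hP]; exact t.stronglyClosed h hL1)
  rw [← TwoFusion.PerfCore.perf_eq_iInf] at h1
  have h2 : ¬ Group.IsSolvable (TwoFusion.PerfCore.perf (centralizer (BB h t.two : Set G))) := by
    intro h3
    have h4 := TwoFusion.PerfCore.perf_eq_bot_of_solvable h3
    rw [TwoFusion.PerfCore.perf_perf] at h4
    exact t.not_solvable h hK1 hL1 (TwoFusion.PerfCore.solvable_of_perf_eq_bot h4)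
  have h3 := hN _ h1 h2
  rw [eq_bot_iff, ← h3]
  intro b hb
  rw [mem_centralizer_iff]
  intro x hx
  have h4 := TwoFusion.PerfCore.perf_le _ hx
  exact (mem_centralizer_iff.1 h4 b hb).symm

end Cfsg.Agent.Cit.OneF
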