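import Cfsg.Agent.Cit.OneF.Defs

/-!
# Theorem F1: Lemmas `L1'` and `L2`

All statements are for arbitrary 2-elements `b`, by induction on the order of `b`.
-/

set_option autoImplicit false
set_option linter.style.haveILetI false
set_option linter.unusedSectionVars false

namespace Cfsg.Agent.Cit.OneF

open Subgroup Cfsg Cit OneBasic

variable {G : Type*} [Group G] [Finite G] {Om : Set (Subgroup G)}

/-- `OPair.cent_or` for elements whose square centralises `Q'` -/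
theorem cent_or_sq {K L T Q Q' : Subgroup G} (p : OPair Om K L T Q Q') (h : One Om) {a : G} (ha : a ∈ T)
    (haQ : ∀ x ∈ Q, a * x = x * a) (ha2 : ∀ x ∈ Q', (a * a) * x = x * (a * a)) :
    (∀ x ∈ Q', a * x = x * a) ∨ (∀ x ∈ Q', (zz K * a) * x = x * (zz K * a)) := by
  obtain ⟨x, y, x', y', n, c⟩ := p.exists_co h
  rcases c.dich h with h1 | h1
  · have hW' := h1.1
    have hx'T : x' ∈ T := p.symm.mem_T h c.gq'.c_mem hW'.symm
    have hax : a * x' = x' * a := p.cent_R' h ha haQ c.gq'.c_mem hx'T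
    rcases c.symm.conj_y_of_sq ha hax (ha2 _ c.gq'.v_mem) with h1 | h1
    · left
      apply c.symm.cent_Q hax
      rwa [mul_inv_eq_iff_eq_mul] at h1
    · right
      apply c.symm.cent_Q
      · calc zz K * a * x' = zz K * (a * x') := by group
          _ = (zz K * x') * a := by rw [hax]; group
          _ = x' * (zz K * a) := by rw [hW']; group
      · have h2 := c.symm.t_y h hW'
        have h3 : zz K * a * y' * (zz K * a)⁻¹ = y' := by
          calc zz K * a * y' * (zz K * a)⁻¹ = zz K * (a * y' * a⁻¹) * (zz K)⁻¹ := by group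
            _ = zz K * y' * (zz K)⁻¹ * (zz K * zz L * (zz K)⁻¹) := by rw [h1]; group
            _ = y' * zz L * zz L := by rw [h2, p.comm]; group
            _ = y' := by rw [mul_assoc, h.hyp.zz_mul p.hL, mul_one]
        rwa [mul_inv_eq_iff_eq_mul] at h3
  · exact c.cent_or_SD h h1.1 h1.2 ha haQ

/-- **(P3)** holds for `b` if `b²` centralises Sylow subgroups of all members commuting with `b` -/
theorem p3_of_sq (h : One Om) {b : G} (hb : IsPGroup 2 (zpowers b))
    (hsq : ∀ L ∈ Om, b * zz L = zz L * b → Perp (b * b) L) : P3 Om b := by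
  intro K hK L hL hne hc hbK hbL
  obtain ⟨T, Q, Q', hbT, p⟩ := h.exists_pair hK hL hne hc hb
    (zpowers_le.2 (hbK.mem_normalizer h hK)) (zpowers_le.2 (h.mem_normalizer hL hbL))
  have hbT' : b ∈ T := hbT (mem_zpowers b)
  have h1 := hbK.cent h hK hb p.hQ (p.hTQ hbT')
  have h2 := (hsq L hL hbL).cent h hL (isPGroup_zpowers_mul_self hb) p.hQ' (p.hTQ' (T.mul_mem hbT' hbT'))
  rcases cent_or_sq p h hbT' h1 h2 with h3 | h3
  · exact Or.inl ⟨Q', p.hQ', h3⟩
  · exact Or.inr ⟨Q', p.hQ', h3⟩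

/-- a Sylow 2-subgroup of `C(b)` contains a member involution which is central in it -/
theorem exists_top (h : One Om) {K : Subgroup G} (hK : K ∈ Om) {b : G} (hb : IsPGroup 2 (zpowers b))
    {A : Subgroup G} (hA : IsPGroup 2 A) (hAb : A ≤ centralizer {b}) :
    ∃ T, Syl T (centralizer {b}) ∧ A ≤ T ∧ b ∈ T ∧ ∃ K0 ∈ Om, zz K0 ∈ T ∧ ∀ x ∈ T, x * zz K0 = zz K0 * x := by
  obtain ⟨T, hT, hAT⟩ := exists_syl_ge hA hAb
  have hbT : b ∈ T := by
    have h1 : zpowers b ≤ T := by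
      refine syl_le_of_normalizes hT hb ?_ ?_
      · rw [zpowers_le, mem_centralizer_singleton_iff]
      · intro a ha
        have h2 := mem_centralizer_singleton_iff.1 (hT.1 ha)
        apply mem_normalizer_of_cent
        rintro _ ⟨k, rfl⟩
        exact ((show Commute a b from h2).zpow_right k).eq
    exact h1 (mem_zpowers b)
  obtain ⟨S, hS, hTS⟩ := exists_syl_ge hT.2.1 (le_top : T ≤ ⊤)
  obtain ⟨Q, hQ⟩ := Hyp.exists_syl K
  obtain ⟨S0, hS0, hQS0⟩ := exists_syl_ge hQ.2.1 (le_top : Q ≤ ⊤)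
  obtain ⟨g, -, hg⟩ := hS0.exists_conj hS
  have hK0 : cj g K ∈ Om := h.hyp.conj K hK g
  have hQ0 : Syl (cj g Q) (cj g K) := hQ.cj g
  have hQ0S : cj g Q ≤ S := by rw [← hg]; exact cj_mono g hQS0
  have hSn : S ≤ normalizer ((cj g K : Subgroup G) : Set G) :=
    h.le_normalizer_self hS.2.1 (mem_OmS_of_le hK0 hQ0 hQ0S)
  have hz0 : zz (cj g K) ∈ cj g Q := by
    obtain ⟨c, v, n, hc⟩ := h.hyp.exists_gq hK0 hQ0
    exact hc.z_mem
  have hcomm : ∀ x ∈ T, x * zz (cj g K) = zz (cj g K) * x := fun x hx => h.hyp.comm_zz hK0 (hSn (hTS hx))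
  refine ⟨T, hT, hAT, hbT, cj g K, hK0, ?_, hcomm⟩
  have h3 : zpowers (zz (cj g K)) ≤ T := by
    refine syl_le_of_normalizes hT (isPGroup_zpowers_zz h.hyp hK0) ?_ ?_
    · rw [zpowers_le, mem_centralizer_singleton_iff]
      exact (hcomm b hbT).symm
    · intro a ha
      apply mem_normalizer_of_cent
      rintro _ ⟨k, rfl⟩
      exact ((show Commute a (zz (cj g K)) from hcomm a ha).zpow_right k).eq
  exact h3 (mem_zpowers _)

/-- a 2-subgroup of `C(b)` is conjugate in `C(b)` into a given Sylow subgroup of `C(b)` -/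
theorem exists_conj_le {b : G} {T A : Subgroup G} (hT : Syl T (centralizer {b})) (hA : IsPGroup 2 A)
    (hAb : A ≤ centralizer {b}) : ∃ c, c * b = b * c ∧ cj c A ≤ T := by
  obtain ⟨R, hR, hAR⟩ := exists_syl_ge hA hAb
  obtain ⟨c, hc, hcR⟩ := hR.exists_conj hT
  exact ⟨c, mem_centralizer_singleton_iff.1 hc, by rw [← hcR]; exact cj_mono c hAR⟩

theorem two_zz (h : One Om) {K L : Subgroup G} (hK : K ∈ Om) (hL : L ∈ Om)
    (hc : zz K * zz L = zz L * zz K) : IsPGroup 2 (zpowers (zz K) ⊔ zpowers (zz L) : Subgroup G) :=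
  exists_two_of_commute (isPGroup_zpowers_zz h.hyp hK) (isPGroup_zpowers_zz h.hyp hL) hc

/-- **Lemma L1'** for one element -/
theorem perp_of_WW_aux (h : One Om) (hL1 : L1 Om) {b : G} (hb : IsPGroup 2 (zpowers b)) (h3 : P3 Om b)
    (hw : WW Om b) {L : Subgroup G} (hL : L ∈ Om) (hbL : b * zz L = zz L * b) : Perp b L := by
  obtain ⟨K, hK, T, hT, hne, hc, hbK, hbT⟩ := hw
  have hA : IsPGroup 2 (zpowers (zz K) ⊔ zpowers (zz T) : Subgroup G) := two_zz h hK hT hc
  have hAb : zpowers (zz K) ⊔ zpowers (zz T) ≤ centralizer {b} := by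
    rw [sup_le_iff, zpowers_le, zpowers_le, mem_centralizer_singleton_iff, mem_centralizer_singleton_iff]
    exact ⟨(hbK.comm h.hyp hK).symm, (hbT.comm h.hyp hT).symm⟩
  obtain ⟨R, hR, hAR, hbR, K0, hK0, hz0, hcen⟩ := exists_top h hK hb hA hAb
  have hKR : zz K ∈ R := hAR (mem_sup_left (mem_zpowers _))
  have hTR : zz T ∈ R := hAR (mem_sup_right (mem_zpowers _))
  have hb0 : Perp b K0 :=
    hL1 b hb h3 K hK T hT K0 hK0 hbK hbT hne hc (hcen b hbR) (hcen _ hKR)
  obtain ⟨c, hcb, hcR⟩ := exists_conj_le hR (isPGroup_zpowers_zz h.hyp hL)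
    (by rw [zpowers_le, mem_centralizer_singleton_iff]; exact hbL.symm)
  have hL' : cj c L ∈ Om := h.hyp.conj L hL c
  have hzL' : zz (cj c L) ∈ R := by
    rw [h.hyp.zz_cj hL]
    exact hcR (conj_mem_cj (mem_zpowers _))
  apply Perp.of_conj_of_comm hcb
  have hbL' : b * zz (cj c L) = zz (cj c L) * b := by
    rw [h.hyp.zz_cj hL]
    have h5 := commute_conj c hbL
    have h6 : c * b * c⁻¹ = b := by rw [hcb, mul_inv_cancel_right]
    rwa [h6] at h5
  by_cases hKK : K0 = K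
  · subst hKK
    exact hL1 b hb h3 K0 hK0 T hT _ hL' hb0 hbT hne hc hbL' (hcen _ hzL').symm
  · exact hL1 b hb h3 K0 hK0 K hK _ hL' hb0 hbK hKK (hcen _ hKR).symm hbL' (hcen _ hzL').symm

omit [Finite G] in
theorem WW.sq {b : G} (h : WW Om b) : WW Om (b * b) := by
  obtain ⟨K, hK, T, hT, hne, hc, hbK, hbT⟩ := h
  exact ⟨K, hK, T, hT, hne, hc, hbK.sq, hbT.sq⟩

theorem WW.conj (hO : Hyp Om) {b : G} (h : WW Om b) (g : G) : WW Om (g * b * g⁻¹) := by
  obtain ⟨K, hK, T, hT, hne, hc, hbK, hbT⟩ := h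
  refine ⟨cj g K, hO.conj K hK g, cj g T, hO.conj T hT g, fun hh => hne (cj_inj.1 hh), ?_, hbK.conj g,
    hbT.conj g⟩
  rw [hO.zz_cj hK, hO.zz_cj hT]
  exact commute_conj g hc

theorem orderOf_sq_lt {b : G} (hb : IsPGroup 2 (zpowers b)) (hb1 : b ≠ 1) : orderOf (b * b) < orderOf b := by
  haveI : Fact (Nat.Prime 2) := ⟨Nat.prime_two⟩
  obtain ⟨k, hk⟩ := (IsPGroup.iff_card.1 hb)
  rw [Nat.card_zpowers] at hk
  have hk0 : k ≠ 0 := by
    rintro rfl
    rw [pow_zero, orderOf_eq_one_iff] at hk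
    exact hb1 hk
  obtain ⟨j, rfl⟩ := Nat.exists_eq_succ_of_ne_zero hk0
  rw [← pow_two, orderOf_pow, hk, Nat.succ_eq_add_one, pow_succ, Nat.gcd_mul_left_left,
    Nat.mul_div_cancel _ (by norm_num)]
  have : 0 < 2 ^ j := by positivity
  omega

/-- **Lemma L1'** -/
theorem perp_of_WW (h : One Om) (hL1 : L1 Om) : ∀ (n : ℕ) (b : G), orderOf b = n → IsPGroup 2 (zpowers b) →
    WW Om b → ∀ L ∈ Om, b * zz L = zz L * b → Perp b L := by
  intro n
  induction n using Nat.strong_induction_on with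
  | _ n ih =>
    intro b hn hb hw L hL hbL
    by_cases hb1 : b = 1
    · rw [hb1]; exact Perp.one L
    · refine perp_of_WW_aux h hL1 hb (p3_of_sq h hb ?_) hw hL hbL
      intro M hM hbM
      refine ih _ ?_ (b * b) rfl (isPGroup_zpowers_mul_self hb) hw.sq M hM ?_
      · rw [← hn]; exact orderOf_sq_lt hb hb1
      · exact ((show Commute b (zz M) from hbM).mul_left hbM).eq

/-- **Lemma L1'** -/
theorem WW.perp {b : G} (hw : WW Om b) (h : One Om) (hL1 : L1 Om) (hb : IsPGroup 2 (zpowers b))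
    {L : Subgroup G} (hL : L ∈ Om) (hbL : b * zz L = zz L * b) : Perp b L :=
  perp_of_WW h hL1 _ b rfl hb hw L hL hbL

/-- a member commuting with `b` has a neighbour commuting with `b` -/
theorem WW.exists_nb {b : G} (hw : WW Om b) (h : One Om) (hb : IsPGroup 2 (zpowers b))
    {U : Subgroup G} (hU : U ∈ Om) (hbU : b * zz U = zz U * b) :
    ∃ V ∈ Om, V ≠ U ∧ b * zz V = zz V * b ∧ zz V * zz U = zz U * zz V := by
  obtain ⟨K, hK, T, hT, hne, hc, hbK, hbT⟩ := hw
  obtain ⟨R, hR, hUR, hbR, K0, hK0, hz0, hcen⟩ := exists_top h hK hb (isPGroup_zpowers_zz h.hyp hU)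
    (by rw [zpowers_le, mem_centralizer_singleton_iff]; exact hbU.symm)
  by_cases hKU : K0 = U
  · subst hKU
    have hAb : zpowers (zz K) ⊔ zpowers (zz T) ≤ centralizer {b} := by
      rw [sup_le_iff, zpowers_le, zpowers_le, mem_centralizer_singleton_iff, mem_centralizer_singleton_iff]
      exact ⟨(hbK.comm h.hyp hK).symm, (hbT.comm h.hyp hT).symm⟩
    obtain ⟨c, hcb, hcR⟩ := exists_conj_le hR (two_zz h hK hT hc) hAb
    have key : ∀ M ∈ Om, zz M ∈ zpowers (zz K) ⊔ zpowers (zz T) → cj c M ≠ K0 →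
        ∃ V ∈ Om, V ≠ K0 ∧ b * zz V = zz V * b ∧ zz V * zz K0 = zz K0 * zz V := by
      intro M hM hzM hMne
      have h1 : zz (cj c M) ∈ R := by
        rw [h.hyp.zz_cj hM]
        exact hcR (conj_mem_cj hzM)
      refine ⟨cj c M, h.hyp.conj M hM c, hMne, ?_, hcen _ h1⟩
      exact (mem_centralizer_singleton_iff.1 (hR.1 h1)).symm
    by_cases hcK : cj c K = K0
    · refine key T hT (mem_sup_right (mem_zpowers _)) ?_
      intro hcT
      apply hne
      rw [← cj_inj (g := c), hcK, hcT]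
    · exact key K hK (mem_sup_left (mem_zpowers _)) hcK
  · exact ⟨K0, hK0, hKU, hcen b hbR, (hcen _ (hUR (mem_zpowers _))).symm⟩

/-- **Lemma L2**, one step: `b²` commutes with `z = zz L` -/
theorem comm_of_WW_aux (h : One Om) (hL1 : L1 Om) {b : G} (hw : WW Om b) {S : Subgroup G}
    (hS : IsPGroup 2 S) (hbS : b ∈ S) {L : Subgroup G} (hL : L ∈ Om) (hzS : zz L ∈ S)
    (h2 : b * b * zz L = zz L * (b * b)) : b * zz L = zz L * b := by
  haveI : Fact (Nat.Prime 2) := ⟨Nat.prime_two⟩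
  have hb : IsPGroup 2 (zpowers b) := isPGroup_zpowers_of_mem hS hbS
  obtain ⟨z, hz⟩ : ∃ z, z = zz L := ⟨_, rfl⟩
  have hzz : z * z = 1 := by rw [hz]; exact h.hyp.zz_mul hL
  have hzi : z⁻¹ = z := inv_eq_of_mul_eq_one_right hzz
  rw [← hz] at h2 hzS ⊢
  obtain ⟨c, hc⟩ : ∃ c, c = b⁻¹ * z * b * z := ⟨_, rfl⟩
  by_cases hc1 : c = 1
  · have h3 : b⁻¹ * z * b = z := by
      rw [hc1] at hc
      calc b⁻¹ * z * b = (b⁻¹ * z * b * z) * z⁻¹ := by group
        _ = z := by rw [← hc, one_mul, hzi]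
    calc b * z = b * (b⁻¹ * z * b) := by rw [h3]
      _ = z * b := by group
  exfalso
  have hcS : c ∈ S := by
    rw [hc]
    exact S.mul_mem (S.mul_mem (S.mul_mem (S.inv_mem hbS) hzS) hbS) hzS
  have hzc : z * c * z⁻¹ = c⁻¹ := by
    rw [hc, mul_inv_rev, mul_inv_rev, mul_inv_rev, inv_inv, hzi]
    calc z * (b⁻¹ * z * b * z) * z = z * (b⁻¹ * z * b) * (z * z) := by group
      _ = z * (b⁻¹ * (z * b)) := by rw [hzz]; group
  have hbz : b * z * b⁻¹ = b⁻¹ * z * b := by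
    calc b * z * b⁻¹ = b⁻¹ * (b * b * z) * b⁻¹ := by group
      _ = b⁻¹ * (z * (b * b)) * b⁻¹ := by rw [h2]
      _ = _ := by group
  have hbc : b * c * b⁻¹ = c⁻¹ := by
    rw [hc, mul_inv_rev, mul_inv_rev, mul_inv_rev, inv_inv, hzi]
    calc b * (b⁻¹ * z * b * z) * b⁻¹ = z * (b * z * b⁻¹) := by group
      _ = z * (b⁻¹ * (z * b)) := by rw [hbz]; group
  have hinv : ∀ (g : G), g * c * g⁻¹ = c⁻¹ → ∀ i : ℕ, g * c ^ i = (c ^ i)⁻¹ * g := by
    intro g hg i
    have h4 : g * c ^ i * g⁻¹ = (c ^ i)⁻¹ := by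
      rw [← conj_pow, hg, inv_pow]
    rw [mul_inv_eq_iff_eq_mul] at h4
    exact h4
  -- the involution of `⟨c⟩`
  obtain ⟨k, hk⟩ := IsPGroup.iff_card.1 (isPGroup_zpowers_of_mem hS hcS)
  rw [Nat.card_zpowers] at hk
  obtain ⟨u, hu1, huu, hub, huz, hzu, hbu⟩ : ∃ u : G, u ≠ 1 ∧ u * u = 1 ∧ b * u = u * b ∧ z * u = u * z ∧
      (∃ g, g * z * g⁻¹ = z * u) ∧ (∃ g, g * b * g⁻¹ = b * u) := by
    have hk0 : k ≠ 0 := by
      rintro rfl
      rw [pow_zero, orderOf_eq_one_iff] at hk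
      exact hc1 hk
    obtain ⟨j, rfl⟩ := Nat.exists_eq_succ_of_ne_zero hk0
    have hu2 : c ^ 2 ^ j * c ^ 2 ^ j = 1 := by
      rw [← pow_add, ← two_mul, ← pow_succ', ← Nat.succ_eq_add_one, ← hk, pow_orderOf_eq_one]
    have hui : (c ^ 2 ^ j)⁻¹ = c ^ 2 ^ j := inv_eq_of_mul_eq_one_right hu2
    have hu1 : c ^ 2 ^ j ≠ 1 := by
      intro h5
      have h6 := orderOf_dvd_of_pow_eq_one h5
      rw [hk] at h6
      have h7 := Nat.le_of_dvd (by positivity) h6
      have h8 : 2 ^ (j + 1) = 2 ^ j * 2 := pow_succ 2 j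
      rw [Nat.succ_eq_add_one, h8] at h7
      have : 0 < 2 ^ j := by positivity
      omega
    refine ⟨c ^ 2 ^ j, hu1, hu2, ?_, ?_, ?_, ?_⟩
    · rw [hinv b hbc, hui]
    · rw [hinv z hzc, hui]
    · rcases Nat.eq_zero_or_pos j with rfl | hj
      · refine ⟨b⁻¹, ?_⟩
        rw [pow_zero, pow_one, inv_inv]
        have h5 : z * c = c⁻¹ * z := by
          have := hinv z hzc 1
          rwa [pow_one] at this
        have h6 : c⁻¹ = c := by
          have := hui
          rwa [pow_zero, pow_one] at this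
        rw [h5, h6, hc]
        calc b⁻¹ * z * b = b⁻¹ * z * b * (z * z) := by rw [hzz, mul_one]
          _ = b⁻¹ * z * b * z * z := by group
      · obtain ⟨i, rfl⟩ := Nat.exists_eq_succ_of_ne_zero hj.ne'
        refine ⟨(c ^ 2 ^ i)⁻¹, ?_⟩
        rw [inv_inv, ← hinv z hzc, mul_assoc, ← pow_add, ← two_mul, ← pow_succ', Nat.succ_eq_add_one]
    · rcases Nat.eq_zero_or_pos j with rfl | hj
      · refine ⟨z, ?_⟩
        rw [pow_zero, pow_one, hzi, hc]
        group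
      · obtain ⟨i, rfl⟩ := Nat.exists_eq_succ_of_ne_zero hj.ne'
        refine ⟨(c ^ 2 ^ i)⁻¹, ?_⟩
        rw [inv_inv, ← hinv b hbc, mul_assoc, ← pow_add, ← two_mul, ← pow_succ', Nat.succ_eq_add_one]
  obtain ⟨g1, hg1⟩ := hzu
  obtain ⟨g2, hg2⟩ := hbu
  -- `u` is the involution of a member `U`
  have hM1 : cj g1 L ∈ Om := h.hyp.conj L hL g1
  have hzM1 : zz (cj g1 L) = z * u := by rw [h.hyp.zz_cj hL, ← hz, hg1]
  obtain ⟨U, hU, hUz⟩ := exists_mul h hL hM1 (by
      intro h5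
      rw [← h5, ← hz] at hzM1
      exact hu1 (by simpa using hzM1.symm))
    (by
      rw [hzM1, ← hz]
      calc z * (z * u) = z * (u * z) := by rw [huz]
        _ = z * u * z := by group)
  rw [hzM1, ← hz] at hUz
  have hUu : zz U = u := by
    rw [hUz]
    calc z * (z * u) = (z * z) * u := by group
      _ = u := by rw [hzz, one_mul]
  obtain ⟨V, hV, hVU, hbV, hVc⟩ := hw.exists_nb h hb hU (by rw [hUu]; exact hub)
  have h5 : Perp b V := hw.perp h hL1 hb hV hbV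
  have hw2 : WW Om (b * u) := by rw [← hg2]; exact hw.conj h.hyp g2
  have hb2 : IsPGroup 2 (zpowers (b * u)) := by rw [← hg2]; exact isPGroup_zpowers_conj g2 hb
  rw [hUu] at hVc
  have h6 : Perp (b * u) V := by
    refine hw2.perp h hL1 hb2 hV ?_
    calc b * u * zz V = b * (u * zz V) := by group
      _ = (b * zz V) * u := by rw [← hVc]; group
      _ = zz V * (b * u) := by rw [hbV]; group
  have hup : IsPGroup 2 (zpowers u) := by rw [← hUu]; exact isPGroup_zpowers_zz h.hyp hU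
  have hA : IsPGroup 2 (zpowers b ⊔ zpowers u : Subgroup G) := exists_two_of_commute hb hup hub
  have hbA : b ∈ zpowers b ⊔ zpowers u := mem_sup_left (mem_zpowers b)
  have huA : u ∈ zpowers b ⊔ zpowers u := mem_sup_right (mem_zpowers u)
  have hAV : zpowers b ⊔ zpowers u ≤ normalizer (V : Set G) := by
    rw [sup_le_iff, zpowers_le, zpowers_le]
    exact ⟨h.mem_normalizer hV hbV, h.mem_normalizer hV hVc.symm⟩
  have h7 := h5.inv.mul h6 h hV hA hAV (inv_mem hbA) (mul_mem hbA huA)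
  rw [inv_mul_cancel_left] at h7
  apply not_perp h hV hU hVU
  rwa [hUu]

/-- **Lemma L2** -/
theorem comm_of_WW (h : One Om) (hL1 : L1 Om) : ∀ (n : ℕ) (b : G), orderOf b = n → WW Om b →
    ∀ S : Subgroup G, IsPGroup 2 S → b ∈ S → ∀ L ∈ Om, zz L ∈ S → b * zz L = zz L * b := by
  intro n
  induction n using Nat.strong_induction_on with
  | _ n ih =>
    intro b hn hw S hS hbS L hL hzS
    by_cases hb1 : b = 1
    · rw [hb1, one_mul, mul_one]
    · refine comm_of_WW_aux h hL1 hw hS hbS hL hzS ?_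
      refine ih _ ?_ (b * b) rfl hw.sq S hS (S.mul_mem hbS hbS) L hL hzS
      rw [← hn]; exact orderOf_sq_lt (isPGroup_zpowers_of_mem hS hbS) hb1

/-- **Lemma L2** -/
theorem WW.comm {b : G} (hw : WW Om b) (h : One Om) (hL1 : L1 Om) {S : Subgroup G} (hS : IsPGroup 2 S)
    (hbS : b ∈ S) {L : Subgroup G} (hL : L ∈ Om) (hzS : zz L ∈ S) : b * zz L = zz L * b :=
  comm_of_WW h hL1 _ b rfl hw S hS hbS L hL hzS

/-- `L1'` and `L2` together -/
theorem WW.perp' {b : G} (hw : WW Om b) (h : One Om) (hL1 : L1 Om) {S : Subgroup G} (hS : IsPGroup 2 S)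
    (hbS : b ∈ S) {L : Subgroup G} (hL : L ∈ Om) (hzS : zz L ∈ S) : Perp b L :=
  hw.perp h hL1 (isPGroup_zpowers_of_mem hS hbS) hL (hw.comm h hL1 hS hbS hL hzS)

end Cfsg.Agent.Cit.OneF
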