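import Cfsg.Agent.Cit.OneBasic
import Cfsg.Agent.PLocal.ZJReduction
import Cfsg.Agent.Lib.HallHigman

/-!
# Solvable groups: a 2-subgroup `V` with `X = O(X) N_X(V)` and `C_T(V) ≤ V`
-/

set_option autoImplicit false
set_option linter.style.haveILetI false
set_option linter.unusedSectionVars false

namespace Cfsg.Agent.Cit.OneF

open Subgroup Cfsg Cit OneBasic
open Cfsg.Agent.Lib

variable {G : Type*} [Group G] [Finite G]

/-- in the solvable group `X` with Sylow 2-subgroup `P` -/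
theorem exists_constrained_aux {X : Type*} [Group X] [Finite X] [Group.IsSolvable X] (P : Sylow 2 X) :
    ∃ V : Subgroup X, V ≤ (P : Subgroup X) ∧ (P : Subgroup X) ≤ normalizer (V : Set X) ∧
      pPrimeCore 2 X ⊔ normalizer (V : Set X) = ⊤ ∧
      ∀ x ∈ (P : Subgroup X), (∀ v ∈ V, x * v = v * x) → x ∈ V := by
  haveI : Fact (Nat.Prime 2) := ⟨Nat.prime_two⟩
  haveI hKn : (pPrimeCore 2 X).Normal := Cores.pPrimeCore_normal 2
  obtain ⟨K, hK⟩ : ∃ K, K = pPrimeCore 2 X := ⟨_, rfl⟩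
  rw [← hK] at hKn ⊢
  haveI := hKn
  have hKc : (Nat.card K).Coprime 2 := by rw [hK]; exact Cores.pPrimeCore_coprime 2
  obtain ⟨N, hN⟩ : ∃ N, N = pCore 2 (X ⧸ K) := ⟨_, rfl⟩
  have hNn : N.Normal := by rw [hN]; exact Cores.pCore_normal 2
  have hNp : IsPGroup 2 N := by rw [hN]; exact Cores.pCore_isPGroup 2
  have hcen : centralizer (N : Set (X ⧸ K)) ≤ N := by
    haveI : Group.IsSolvable (X ⧸ K) := Group.isSolvable_of_surjective (QuotientGroup.mk'_surjective K)
    have h1 : pPrimeCore 2 (X ⧸ K) = ⊥ := HallHigman.pPrimeCore_quotient_eq_bot 2 K hK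
    rw [hN]
    exact HallHigman.centralizer_pCore_le_of_solvable 2 h1
  refine ⟨(P : Subgroup X) ⊓ N.comap (QuotientGroup.mk' K), inf_le_left, ?_, ?_, ?_⟩
  · intro p hp
    rw [mem_normalizer_iff_cj, cj_inf, mem_normalizer_iff_cj.1 (le_normalizer hp)]
    congr 1
    have := hNn.comap (QuotientGroup.mk' K)
    rw [← mem_normalizer_iff_cj, normalizer_eq_top_iff.2 this]
    trivial
  · refine PLocal.ZJReduction.sup_normalizer_eq_top hKn hKc (P.isPGroup'.to_le inf_le_left) ?_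
    rw [PLocal.ZJReduction.sup_inf_comap K hNn hNp P]
    exact hNn.comap _
  · intro x hx hxV
    refine ⟨hx, ?_⟩
    change QuotientGroup.mk' K x ∈ N
    apply hcen
    rw [mem_centralizer_iff]
    intro y hy
    rw [← PLocal.ZJReduction.map_inf_comap K hNn hNp P] at hy
    obtain ⟨v, hv, rfl⟩ := hy
    rw [← map_mul, ← map_mul, hxV v hv]

/-- the same in subgroups of `G` -/
theorem exists_constrained {X T : Subgroup G} (hX : Group.IsSolvable X) (hT : Syl T X) :
    ∃ V O : Subgroup G, V ≤ T ∧ T ≤ normalizer (V : Set G) ∧ ¬ 2 ∣ Nat.card O ∧ O ≤ X ∧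
      (∀ x ∈ X, ∃ o ∈ O, ∃ n ∈ X, n ∈ normalizer (V : Set G) ∧ x = o * n) ∧
      (X ≤ normalizer (O : Set G)) ∧
      ∀ x ∈ T, (∀ v ∈ V, x * v = v * x) → x ∈ V := by
  haveI : Fact (Nat.Prime 2) := ⟨Nat.prime_two⟩
  obtain ⟨P, hP⟩ := hT.exists_sylow
  obtain ⟨V, hVP, hPV, htop, hcen⟩ := exists_constrained_aux P
  haveI hKn : (pPrimeCore 2 X).Normal := Cores.pPrimeCore_normal 2
  have hPT : (P : Subgroup X).map X.subtype = T := by rw [hP, map_subgroupOf_eq_of_le hT.1]
  have hmapn : ∀ g : X, g ∈ normalizer (V : Set X) →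
      (g : G) ∈ normalizer ((V.map X.subtype : Subgroup G) : Set G) := by
    intro g hg
    rw [mem_normalizer_iff_cj] at hg ⊢
    have h1 : cj (g : G) (V.map X.subtype) = (cj g V).map X.subtype := by
      rw [cj_def, cj_def, Subgroup.map_map, Subgroup.map_map]
      congr 1
    rw [h1, hg]
  refine ⟨V.map X.subtype, (pPrimeCore 2 X).map X.subtype, ?_, ?_, ?_, map_subtype_le _, ?_, ?_, ?_⟩
  · rw [← hPT]; exact Subgroup.map_mono hVP
  · intro t ht
    rw [← hPT] at ht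
    obtain ⟨t', ht', rfl⟩ := ht
    exact hmapn t' (hPV ht')
  · rw [card_map_of_injective X.subtype_injective]
    have h := Cores.pPrimeCore_coprime (G := X) 2
    intro h2
    have := Nat.dvd_gcd h2 (dvd_refl 2)
    rw [h] at this
    omega
  · intro x hx
    have h1 : (⟨x, hx⟩ : X) ∈ pPrimeCore 2 X ⊔ normalizer (V : Set X) := by rw [htop]; trivial
    obtain ⟨o, ho, n, hn, hon⟩ := mem_sup_of_normal_left.1 h1
    exact ⟨o, ⟨o, ho, rfl⟩, n, n.2, hmapn n hn, (congrArg Subtype.val hon).symm⟩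
  · intro x hx
    rw [mem_normalizer_iff_cj]
    have h1 : cj (⟨x, hx⟩ : X) (pPrimeCore 2 X) = pPrimeCore 2 X := by
      rw [← mem_normalizer_iff_cj, normalizer_eq_top_iff.2 hKn]
      trivial
    conv_rhs => rw [← h1]
    rw [cj_def, cj_def, Subgroup.map_map, Subgroup.map_map]
    congr 1
  · intro x hx hxV
    rw [← hPT] at hx
    obtain ⟨x', hx', rfl⟩ := hx
    refine ⟨x', hcen x' hx' ?_, rfl⟩
    intro v hv
    exact Subtype.ext (hxV _ ⟨v, hv, rfl⟩)

end Cfsg.Agent.Cit.OneF
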