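import Mathlib

/-!
# Groups inducing all transvections on an elementary abelian subgroup are not solvable
-/

set_option autoImplicit false

namespace Cfsg.Agent.Cit.OneF

open Subgroup
open scoped commutatorElement

variable {G : Type*} [Group G]

/-- `H` induces all transvections `e ↦ e`, `b ↦ b`, `c ↦ c e` on `Z` (`e, b, c` independent) -/
def Full (Z H : Subgroup G) : Prop := ∀ e ∈ Z, ∀ b ∈ Z, ∀ c ∈ Z, e ≠ 1 → b ≠ 1 → b ≠ e → c ≠ 1 →
  c ≠ e → c ≠ b → c ≠ e * b → ∃ h ∈ H, h * e * h⁻¹ = e ∧ h * b * h⁻¹ = b ∧ h * c * h⁻¹ = c * e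

theorem Full.mono {Z H K : Subgroup G} (h : Full Z H) (hHK : H ≤ K) : Full Z K := by
  intro e he b hb c hc h1 h2 h3 h4 h5 h6 h7
  obtain ⟨x, hx, hx2⟩ := h e he b hb c hc h1 h2 h3 h4 h5 h6 h7
  exact ⟨x, hHK hx, hx2⟩

theorem conj_inv_eq {h x y : G} (hh : h * x * h⁻¹ = y) : h⁻¹ * y * h = x := by
  rw [← hh]; group

theorem Full.commutator {Z H : Subgroup G} (hsq : ∀ v ∈ Z, v * v = 1) (h : Full Z H) : Full Z ⁅H, H⁆ := by
  have hcomm : ∀ v ∈ Z, ∀ w ∈ Z, v * w = w * v := by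
    intro v hv w hw
    have h1 := hsq _ (Z.mul_mem hv hw)
    calc v * w = (w * w) * (v * w) * (v * v) := by rw [hsq w hw, hsq v hv, one_mul, mul_one]
      _ = w * ((w * v) * (w * v)) * v := by group
      _ = w * v := by rw [hsq _ (Z.mul_mem hw hv), mul_one]
  intro e he b hb c hc h1 h2 h3 h4 h5 h6 h7
  -- `g : e ↦ e, c ↦ c, b ↦ b e`
  obtain ⟨g, hg, hge, hgc, hgb⟩ := h e he c hc b hb h1 h4 h5 h2 h3 h6.symm (by
    intro hbc
    apply h7
    rw [hbc, ← mul_assoc, hsq e he, one_mul])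
  -- `r : b ↦ b, e ↦ e, c ↦ c b`
  obtain ⟨r, hr, hrb, hre, hrc⟩ := h b hb e he c hc h2 h1 h3.symm h4 h6 h5 (by
    rw [hcomm b hb e he]; exact h7)
  refine ⟨⁅g, r⁆, commutator_mem_commutator hg hr, ?_⟩
  have hgb' : g⁻¹ * b * g = b * e := by
    apply conj_inv_eq
    calc g * (b * e) * g⁻¹ = (g * b * g⁻¹) * (g * e * g⁻¹) := by group
      _ = b * (e * e) := by rw [hgb, hge, mul_assoc]
      _ = b := by rw [hsq e he, mul_one]
  have hge' : g⁻¹ * e * g = e := conj_inv_eq hge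
  have hgc' : g⁻¹ * c * g = c := conj_inv_eq hgc
  have hre' : r⁻¹ * e * r = e := conj_inv_eq hre
  have hrb' : r⁻¹ * b * r = b := conj_inv_eq hrb
  have hrc' : r⁻¹ * c * r = c * b := by
    apply conj_inv_eq
    calc r * (c * b) * r⁻¹ = (r * c * r⁻¹) * (r * b * r⁻¹) := by group
      _ = c * (b * b) := by rw [hrc, hrb, mul_assoc]
      _ = c := by rw [hsq b hb, mul_one]
  have key : ∀ x : G, ⁅g, r⁆ * x * ⁅g, r⁆⁻¹ = g * (r * (g⁻¹ * (r⁻¹ * x * r) * g) * r⁻¹) * g⁻¹ := by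
    intro x
    rw [commutatorElement_def]; group
  refine ⟨?_, ?_, ?_⟩
  · rw [key, hre', hge', hre, hge]
  · rw [key, hrb', hgb']
    have h8 : r * (b * e) * r⁻¹ = b * e := by
      calc r * (b * e) * r⁻¹ = (r * b * r⁻¹) * (r * e * r⁻¹) := by group
        _ = b * e := by rw [hrb, hre]
    rw [h8, ← hgb']; group
  · rw [key, hrc']
    have h8 : g⁻¹ * (c * b) * g = c * b * e := by
      calc g⁻¹ * (c * b) * g = (g⁻¹ * c * g) * (g⁻¹ * b * g) := by group
        _ = c * b * e := by rw [hgc', hgb', mul_assoc]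
    have h9 : r * (c * b * e) * r⁻¹ = c * e := by
      calc r * (c * b * e) * r⁻¹ = (r * c * r⁻¹) * (r * b * r⁻¹) * (r * e * r⁻¹) := by group
        _ = c * (b * b) * e := by rw [hrc, hrb, hre]; group
        _ = c * e := by rw [hsq b hb, mul_one]
    rw [h8, h9]
    calc g * (c * e) * g⁻¹ = (g * c * g⁻¹) * (g * e * g⁻¹) := by group
      _ = c * e := by rw [hgc, hge]

/-- such a group is not solvable as soon as `|Z| ≥ 8` -/
theorem Full.not_solvable {Z X : Subgroup G} (hsq : ∀ v ∈ Z, v * v = 1) (h : Full Z X)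
    {e b c : G} (he : e ∈ Z) (hb : b ∈ Z) (hc : c ∈ Z) (h1 : e ≠ 1) (h2 : b ≠ 1) (h3 : b ≠ e) (h4 : c ≠ 1)
    (h5 : c ≠ e) (h6 : c ≠ b) (h7 : c ≠ e * b) : ¬ Group.IsSolvable X := by
  intro hs
  have key : ∀ n : ℕ, Full Z ((derivedSeries X n).map X.subtype) := by
    intro n
    induction n with
    | zero =>
      rw [derivedSeries_zero, ← MonoidHom.range_eq_map, range_subtype]
      exact h
    | succ n ih =>
      rw [derivedSeries_succ, map_commutator]
      exact ih.commutator hsq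
  obtain ⟨n, hn⟩ := (Group.isSolvable_def X).1 hs
  obtain ⟨x, hx, hxe, -, hxc⟩ := key n e he b hb c hc h1 h2 h3 h4 h5 h6 h7
  rw [hn, Subgroup.map_bot, mem_bot] at hx
  rw [hx] at hxc
  apply h1
  simpa using hxc.symm

end Cfsg.Agent.Cit.OneF
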