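import Cfsg.Agent.Cit.OneF.Strong
import Cfsg.Agent.Cit.OneF.Solv
import Cfsg.Agent.Cit.OneF.Trans

/-!
# Theorem F1: the configuration in a solvable group `X` containing enough of the members
-/

set_option autoImplicit false
set_option linter.style.haveILetI false
set_option linter.unusedSectionVars false

namespace Cfsg.Agent.Cit.OneF

open Subgroup Cfsg Cit OneBasic

variable {G : Type*} [Group G] [Finite G] {Om : Set (Subgroup G)}

/-- see the head of the file -/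
structure Conf (Om : Set (Subgroup G)) (X T V O K Q : Subgroup G) : Prop where
  one : One Om
  hK : K ∈ Om
  hQ : Syl Q K
  hTX : T ≤ X
  hQT : Q ≤ T
  hTQ : T ≤ normalizer (Q : Set G)
  hVT : V ≤ T
  hTV : T ≤ normalizer (V : Set G)
  hO : ¬ 2 ∣ Nat.card O
  hOX : X ≤ normalizer (O : Set G)
  dec : ∀ x ∈ X, ∃ o ∈ O, ∃ n ∈ X, n ∈ normalizer (V : Set G) ∧ x = o * n
  cen : ∀ x ∈ T, (∀ v ∈ V, x * v = v * x) → x ∈ V
  conj : ∀ L ∈ Om, zz L ∈ X → ∃ x ∈ X, x * zz K * x⁻¹ = zz L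
  four : ∀ x ∈ Q, ∀ y ∈ Q, orderOf x = 4 → orderOf y = 4 → ∃ k ∈ X, k * x * k⁻¹ = y
  nb : ∃ L ∈ Om, L ≠ K ∧ zz L ∈ X ∧ zz L * zz K = zz K * zz L

omit [Finite G] in
theorem eq_one_of_odd' {O : Subgroup G} (hO : ¬ 2 ∣ Nat.card O) {x : G} (hx : x ∈ O) (h2 : x * x = 1) :
    x = 1 := by
  by_contra h1
  apply hO
  have h3 : orderOf x = 2 := orderOf_eq_prime (by rw [pow_two]; exact h2) h1
  rw [← h3, ← Nat.card_zpowers]
  exact card_dvd_of_le (zpowers_le.2 hx)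

namespace Conf

variable {X T V O K Q : Subgroup G}

theorem z_mem_Q (c : Conf Om X T V O K Q) : zz K ∈ Q := by
  obtain ⟨x, y, n, hc⟩ := c.one.hyp.exists_gq c.hK c.hQ
  exact hc.z_mem

theorem zz_one (c : Conf Om X T V O K Q) : zz K * zz K = 1 := c.one.hyp.zz_mul c.hK

theorem eq_z (c : Conf Om X T V O K Q) {u : G} (hu : u ∈ Q) (h2 : u * u = 1) (h1 : u ≠ 1) : u = zz K :=
  c.one.hyp.eq_zz c.hK (c.hQ.1 hu) h2 h1

theorem conj_Q (c : Conf Om X T V O K Q) {t u : G} (ht : t ∈ T) (hu : u ∈ Q) : t * u * t⁻¹ ∈ Q :=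
  conj_mem_of (c.hTQ ht) hu

theorem comm_z (c : Conf Om X T V O K Q) {t : G} (ht : t ∈ T) : t * zz K = zz K * t := by
  have h1 : t * zz K * t⁻¹ = zz K := by
    apply c.eq_z (c.conj_Q ht c.z_mem_Q)
    · calc t * zz K * t⁻¹ * (t * zz K * t⁻¹) = t * (zz K * zz K) * t⁻¹ := by group
        _ = 1 := by rw [c.zz_one]; group
    · intro h2
      apply c.one.hyp.zz_ne c.hK
      calc zz K = t⁻¹ * (t * zz K * t⁻¹) * t := by group
        _ = 1 := by rw [h2]; group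
  rwa [mul_inv_eq_iff_eq_mul] at h1

theorem z_mem_V (c : Conf Om X T V O K Q) : zz K ∈ V := by
  by_contra hcon
  have hIQ : AutQuat.IsQ Q := c.one.hyp.isGQ c.hK c.hQ
  have h1 : ∀ u ∈ V, u ∈ Q → u = 1 := by
    intro u hu huQ
    by_contra hu1
    apply hcon
    exact (zpowers_le.2 hu) (hIQ.mem_zpowers (fun t ht => c.one.hyp.uniq K c.hK t (c.hQ.1 ht)) huQ hu1)
  apply hcon
  apply c.cen _ (c.hQT c.z_mem_Q)
  intro v hv
  have h2 : zz K * v * (zz K)⁻¹ * v⁻¹ = 1 := by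
    apply h1
    · exact V.mul_mem (conj_mem_of (c.hTV (c.hQT c.z_mem_Q)) hv) (V.inv_mem hv)
    · have h3 := Q.mul_mem c.z_mem_Q (c.conj_Q (c.hVT hv) (Q.inv_mem c.z_mem_Q))
      simpa [mul_assoc] using h3
  rw [mul_inv_eq_one, mul_inv_eq_iff_eq_mul] at h2
  exact h2

/-- `Z₁ = Z(V) ∩ (Z ∪ 1)` -/
def ZO (c : Conf Om X T V O K Q) : Subgroup G where
  carrier := {v | v ∈ V ∧ (∀ w ∈ V, v * w = w * v) ∧ (v = 1 ∨ ∃ L ∈ Om, zz L = v)}
  one_mem' := ⟨V.one_mem, fun w _ => by rw [one_mul, mul_one], Or.inl rfl⟩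
  mul_mem' := by
    rintro a b ⟨ha, ha1, ha2⟩ ⟨hb, hb1, hb2⟩
    refine ⟨V.mul_mem ha hb, fun w hw => ?_, ?_⟩
    · calc a * b * w = a * (b * w) := by group
        _ = (a * w) * b := by rw [hb1 w hw]; group
        _ = w * (a * b) := by rw [ha1 w hw]; group
    · rcases ha2 with rfl | ⟨L, hL, rfl⟩
      · rw [one_mul]; exact hb2
      · rcases hb2 with rfl | ⟨M, hM, rfl⟩
        · rw [mul_one]; exact Or.inr ⟨L, hL, rfl⟩
        · by_cases hLM : L = M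
          · left; rw [hLM]; exact c.one.hyp.zz_mul hM
          · right
            exact exists_mul c.one hL hM hLM (ha1 _ hb)
  inv_mem' := by
    rintro a ⟨ha, ha1, ha2⟩
    refine ⟨V.inv_mem ha, fun w hw => ?_, ?_⟩
    · have := ha1 w hw
      calc a⁻¹ * w = a⁻¹ * (w * a) * a⁻¹ := by group
        _ = a⁻¹ * (a * w) * a⁻¹ := by rw [this]
        _ = w * a⁻¹ := by group
    · rcases ha2 with rfl | ⟨L, hL, rfl⟩
      · left; exact inv_one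
      · right; exact ⟨L, hL, (c.one.hyp.zz_inv hL).symm⟩

theorem mem_ZO (c : Conf Om X T V O K Q) {v : G} :
    v ∈ c.ZO ↔ v ∈ V ∧ (∀ w ∈ V, v * w = w * v) ∧ (v = 1 ∨ ∃ L ∈ Om, zz L = v) := Iff.rfl

theorem z_mem (c : Conf Om X T V O K Q) : zz K ∈ c.ZO :=
  ⟨c.z_mem_V, fun _ hw => (c.comm_z (c.hVT hw)).symm, Or.inr ⟨K, c.hK, rfl⟩⟩

theorem sq (c : Conf Om X T V O K Q) {v : G} (hv : v ∈ c.ZO) : v * v = 1 := by
  rcases hv.2.2 with rfl | ⟨L, hL, rfl⟩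
  · exact one_mul 1
  · exact c.one.hyp.zz_mul hL

theorem comm (c : Conf Om X T V O K Q) {v w : G} (hv : v ∈ c.ZO) (hw : w ∈ c.ZO) : v * w = w * v :=
  hv.2.1 w hw.1

theorem ZO_le_T (c : Conf Om X T V O K Q) : c.ZO ≤ T := fun _ hv => c.hVT hv.1

/-- the normaliser of `V` normalises `Z₁` -/
theorem conj_ZO (c : Conf Om X T V O K Q) {n v : G} (hn : n ∈ normalizer (V : Set G)) (hv : v ∈ c.ZO) :
    n * v * n⁻¹ ∈ c.ZO := by
  refine ⟨conj_mem_of hn hv.1, fun w hw => ?_, ?_⟩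
  · have h1 := hv.2.1 _ (conj_mem_of' hn hw)
    calc n * v * n⁻¹ * w = n * (v * (n⁻¹ * w * n)) * n⁻¹ := by group
      _ = n * ((n⁻¹ * w * n) * v) * n⁻¹ := by rw [h1]
      _ = w * (n * v * n⁻¹) := by group
  · rcases hv.2.2 with rfl | ⟨L, hL, rfl⟩
    · left; group
    · right; exact ⟨cj n L, c.one.hyp.conj L hL n, c.one.hyp.zz_cj hL n⟩

/-- conjugation by `O` inside a commuting set -/
theorem eq_of_conj (c : Conf Om X T V O K Q) {o a b : G} (ho : o ∈ O) (haX : a ∈ X) (ha2 : a * a = 1)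
    (hb2 : b * b = 1) (hab : a * b = b * a) (h : o * a * o⁻¹ = b) : b = a := by
  have h1 : b * a⁻¹ ∈ O := by
    rw [← h]
    have h2 := O.mul_mem ho (conj_mem_of (c.hOX haX) (O.inv_mem ho))
    have h3 : o * (a * o⁻¹ * a⁻¹) = o * a * o⁻¹ * a⁻¹ := by group
    rwa [h3] at h2
  have hai : a⁻¹ = a := inv_eq_of_mul_eq_one_right ha2
  have h2 : b * a⁻¹ * (b * a⁻¹) = 1 := by
    rw [hai]
    calc b * a * (b * a) = b * (a * b) * a := by group
      _ = (b * b) * (a * a) := by rw [hab]; group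
      _ = 1 := by rw [ha2, hb2, one_mul]
  have h3 := eq_one_of_odd' c.hO h1 h2
  rwa [mul_inv_eq_one] at h3

/-- `N_X(V)` is transitive on the nontrivial elements of `Z₁` -/
theorem trans (c : Conf Om X T V O K Q) {e : G} (he : e ∈ c.ZO) (he1 : e ≠ 1) :
    ∃ n ∈ X, n ∈ normalizer (V : Set G) ∧ n * zz K * n⁻¹ = e := by
  rcases he.2.2 with h1 | ⟨L, hL, hLe⟩
  · exact absurd h1 he1
  · obtain ⟨x, hx, hxe⟩ := c.conj L hL (by rw [hLe]; exact c.hTX (c.ZO_le_T he))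
    rw [hLe] at hxe
    obtain ⟨o, ho, n, hnX, hn, rfl⟩ := c.dec x hx
    refine ⟨n, hnX, hn, ?_⟩
    have h2 := c.conj_ZO hn c.z_mem
    symm
    refine c.eq_of_conj ho (c.hTX (c.ZO_le_T h2)) (c.sq h2) (c.sq he) (c.comm h2 he) ?_
    rw [← hxe]; group

theorem exists_b (c : Conf Om X T V O K Q) : ∃ b ∈ c.ZO, b ≠ 1 ∧ b ≠ zz K := by
  obtain ⟨L, hL, hne, hLX, hLK⟩ := c.nb
  obtain ⟨x, hx, hxL⟩ := c.conj L hL hLX
  obtain ⟨o, ho, n, hnX, hn, rfl⟩ := c.dec x hx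
  refine ⟨n * zz K * n⁻¹, c.conj_ZO hn c.z_mem, ?_, ?_⟩
  · intro h2
    apply c.one.hyp.zz_ne c.hK
    calc zz K = n⁻¹ * (n * zz K * n⁻¹) * n := by group
      _ = 1 := by rw [h2]; group
  · intro h2
    apply hne
    apply c.one.eq_of_zz_eq hL c.hK
    refine c.eq_of_conj ho (c.hTX (c.ZO_le_T c.z_mem)) c.zz_one (c.one.hyp.zz_mul hL) hLK.symm ?_
    rw [← hxL]
    calc o * zz K * o⁻¹ = o * (n * zz K * n⁻¹) * o⁻¹ := by rw [h2]
      _ = _ := by group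

/-- (a) -/
theorem dich (c : Conf Om X T V O K Q) {q v : G} (hq : q ∈ Q) (hv : v ∈ c.ZO) :
    q * v * q⁻¹ = v ∨ q * v * q⁻¹ = v * zz K := by
  have hqT : q ∈ T := c.hQT hq
  have h1 : q * v * q⁻¹ ∈ c.ZO := c.conj_ZO (c.hTV hqT) hv
  have hvi : v⁻¹ = v := inv_eq_of_mul_eq_one_right (c.sq hv)
  have h2 : q * v * q⁻¹ * v⁻¹ ∈ Q := by
    have h3 := Q.mul_mem hq (c.conj_Q (c.ZO_le_T hv) (Q.inv_mem hq))
    simpa [mul_assoc] using h3
  have h3 : q * v * q⁻¹ * v⁻¹ ∈ c.ZO := c.ZO.mul_mem h1 (c.ZO.inv_mem hv)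
  by_cases h4 : q * v * q⁻¹ * v⁻¹ = 1
  · left; rwa [mul_inv_eq_one] at h4
  · right
    have h5 := c.eq_z h2 (c.sq h3) h4
    rw [mul_inv_eq_iff_eq_mul] at h5
    rw [h5]
    exact (c.comm c.z_mem hv)

/-- (b) -/
theorem eq_of_cent (c : Conf Om X T V O K Q) {v : G} (hv : v ∈ c.ZO) (hQv : ∀ q ∈ Q, q * v = v * q) :
    v = 1 ∨ v = zz K := by
  rcases hv.2.2 with h1 | ⟨L, hL, rfl⟩
  · exact Or.inl h1
  · right
    rw [c.one.eq_of_cent c.hK hL c.hQ (fun x hx => (hQv x hx).symm)]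

/-- all elements of order 4 of `Q` centralise `Z₁` if one does -/
theorem four_cent (c : Conf Om X T V O K Q) {x y : G} (hx : x ∈ Q) (hy : y ∈ Q) (hx4 : orderOf x = 4)
    (hy4 : orderOf y = 4) (h : ∀ v ∈ c.ZO, x * v = v * x) : ∀ v ∈ c.ZO, y * v = v * y := by
  intro v hv
  obtain ⟨k, hk, hky⟩ := c.four x hx y hy hx4 hy4
  obtain ⟨o, ho, n, hnX, hn, rfl⟩ := c.dec k hk
  obtain ⟨g, hg⟩ : ∃ g, g = n * x * n⁻¹ := ⟨_, rfl⟩
  have hgX : g ∈ X := by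
    rw [hg]; exact X.mul_mem (X.mul_mem hnX (c.hTX (c.hQT hx))) (X.inv_mem hnX)
  have hgv : g * v * g⁻¹ = v := by
    have h1 := h _ (c.conj_ZO (inv_mem hn) hv)
    rw [mul_inv_eq_iff_eq_mul, hg]
    calc n * x * n⁻¹ * v = n * (x * (n⁻¹ * v * n⁻¹⁻¹)) * n⁻¹ := by group
      _ = n * ((n⁻¹ * v * n⁻¹⁻¹) * x) * n⁻¹ := by rw [h1]
      _ = v * (n * x * n⁻¹) := by group
  have hvX : v ∈ X := c.hTX (c.ZO_le_T hv)
  have hyg : y = o * g * o⁻¹ := by rw [← hky, hg]; group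
  rcases c.dich hy hv with h2 | h2
  · rwa [mul_inv_eq_iff_eq_mul] at h2
  · exfalso
    have h3 : y * v * y⁻¹ * v⁻¹ ∈ O := by
      have e1 : v⁻¹ * o⁻¹ * v⁻¹⁻¹ * o ∈ O := O.mul_mem (conj_mem_of (c.hOX (X.inv_mem hvX)) (O.inv_mem ho)) ho
      have e2 := conj_mem_of (c.hOX hgX) e1
      have e3 := conj_mem_of (c.hOX hvX) (O.mul_mem e2 (O.inv_mem ho))
      have e4 := O.mul_mem ho e3
      have e5 : o * (v * (g * (v⁻¹ * o⁻¹ * v⁻¹⁻¹ * o) * g⁻¹ * o⁻¹) * v⁻¹) = y * v * y⁻¹ * v⁻¹ := by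
        have e6 : g * (v⁻¹ * o⁻¹ * v⁻¹⁻¹ * o) * g⁻¹ = v⁻¹ * g * (o⁻¹ * v * o) * g⁻¹ := by
          have e7 : g * v⁻¹ = v⁻¹ * g := by
            have e8 : g * v = v * g := by rwa [mul_inv_eq_iff_eq_mul] at hgv
            calc g * v⁻¹ = v⁻¹ * (v * g) * v⁻¹ := by group
              _ = v⁻¹ * (g * v) * v⁻¹ := by rw [e8]
              _ = v⁻¹ * g := by group
          calc g * (v⁻¹ * o⁻¹ * v⁻¹⁻¹ * o) * g⁻¹ = (g * v⁻¹) * (o⁻¹ * v * o) * g⁻¹ := by group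
            _ = _ := by rw [e7]
        rw [e6, hyg]; group
      rwa [e5] at e4
    rw [h2] at h3
    have h4 : v * zz K * v⁻¹ = zz K := by
      rw [c.comm hv c.z_mem, mul_inv_cancel_right]
    rw [h4] at h3
    exact c.one.hyp.zz_ne c.hK (eq_one_of_odd' c.hO h3 c.zz_one)

/-- a nontrivial element `≠ z` of `Q` has a power of order 4 -/
theorem exists_pow_four (c : Conf Om X T V O K Q) {q : G} (hq : q ∈ Q) (h1 : q ≠ 1) (h2 : q ≠ zz K) :
    ∃ k : ℕ, orderOf (q ^ k) = 4 := by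
  haveI : Fact (Nat.Prime 2) := ⟨Nat.prime_two⟩
  obtain ⟨m, hm⟩ := IsPGroup.iff_card.1 (isPGroup_zpowers_of_mem c.hQ.2.1 hq)
  rw [Nat.card_zpowers] at hm
  rcases m with _ | _ | m
  · rw [pow_zero, orderOf_eq_one_iff] at hm
    exact absurd hm h1
  · rw [zero_add, pow_one] at hm
    exact absurd (c.one.hyp.uniq K c.hK q (c.hQ.1 hq) hm) h2
  · refine ⟨2 ^ m, ?_⟩
    rw [orderOf_pow' q (by positivity), hm, show m + 1 + 1 = m + 2 by ring, pow_add,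
      Nat.gcd_mul_right_left, Nat.mul_div_cancel_left _ (by positivity)]
    norm_num

/-- (c) -/
theorem not_cent (c : Conf Om X T V O K Q) {q : G} (hq : q ∈ Q) (h1 : q ≠ 1) (h2 : q ≠ zz K) :
    ∃ v ∈ c.ZO, q * v ≠ v * q := by
  by_contra hcon
  push Not at hcon
  obtain ⟨k, hk⟩ := c.exists_pow_four hq h1 h2
  obtain ⟨b, hb, hb1, hbz⟩ := c.exists_b
  have hIQ : AutQuat.IsQ Q := c.one.hyp.isGQ c.hK c.hQ
  have h3 : Q ≤ centralizer {b} := by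
    apply hIQ.le_of_four
    intro y hy hy4
    rw [mem_centralizer_singleton_iff]
    refine c.four_cent (Q.pow_mem hq k) hy hk hy4 ?_ b hb
    intro v hv
    exact ((show Commute q v from hcon v hv).pow_left k).eq
  rcases c.eq_of_cent hb (fun q hq => mem_centralizer_singleton_iff.1 (h3 hq)) with h4 | h4
  · exact hb1 h4
  · exact hbz h4

end Conf

end Cfsg.Agent.Cit.OneF
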