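import Cfsg.Agent.Cit.OnePair

/-!
# Theorem F1 (`|Om(S)| = 1`: no involution centralises two commuting members): definitions

`Perp b K` : the element `b` centralises a Sylow 2-subgroup of `K`.
`P3 Om b`  : if `b ⊥ K` and `b` commutes with `zz L`, `K ≠ L` commuting, then `b ⊥ L` or `zz K * b ⊥ L`.
`K1 Om`    : the elements of order 4 of `K ∈ Om` are conjugate in `K`.
-/

set_option autoImplicit false
set_option linter.style.haveILetI false
set_option linter.unusedSectionVars false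

namespace Cfsg.Agent.Cit.OneF

open Subgroup Cfsg Cit OneBasic

variable {G : Type*} [Group G]

/-- `b` centralises a Sylow 2-subgroup of `K` -/
def Perp (b : G) (K : Subgroup G) : Prop := ∃ Q, Syl Q K ∧ ∀ x ∈ Q, b * x = x * b

/-- see the head of the file -/
def P3 (Om : Set (Subgroup G)) (b : G) : Prop := ∀ K ∈ Om, ∀ L ∈ Om, K ≠ L →
  zz K * zz L = zz L * zz K → Perp b K → b * zz L = zz L * b → Perp b L ∨ Perp (zz K * b) L

/-- the elements of order 4 of a member are conjugate -/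
def K1 (Om : Set (Subgroup G)) : Prop := ∀ K ∈ Om, ∀ x ∈ K, ∀ y ∈ K, orderOf x = 4 → orderOf y = 4 →
  ∃ k ∈ K, k * x * k⁻¹ = y

/-- `b` centralises Sylow 2-subgroups of two commuting members -/
def WW (Om : Set (Subgroup G)) (b : G) : Prop := ∃ K ∈ Om, ∃ L ∈ Om, K ≠ L ∧
  zz K * zz L = zz L * zz K ∧ Perp b K ∧ Perp b L

/-- **Lemma L1** as a statement -/
def L1 (Om : Set (Subgroup G)) : Prop := ∀ b : G, IsPGroup 2 (zpowers b) → P3 Om b →
  ∀ K ∈ Om, ∀ T ∈ Om, ∀ L ∈ Om, Perp b K → Perp b T → K ≠ T → zz K * zz T = zz T * zz K →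
  b * zz L = zz L * b → zz K * zz L = zz L * zz K → Perp b L

/-! ### Small tools -/

theorem commute_conj {a b : G} (g : G) (h : a * b = b * a) :
    (g * a * g⁻¹) * (g * b * g⁻¹) = (g * b * g⁻¹) * (g * a * g⁻¹) := by
  calc (g * a * g⁻¹) * (g * b * g⁻¹) = g * (a * b) * g⁻¹ := by group
    _ = g * (b * a) * g⁻¹ := by rw [h]
    _ = _ := by group

theorem isPGroup_zpowers_conj {b : G} (g : G) (h : IsPGroup 2 (zpowers b)) :
    IsPGroup 2 (zpowers (g * b * g⁻¹)) := by
  have h1 := isPGroup_cj (g := g) h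
  rwa [cj_def, MonoidHom.map_zpowers] at h1

theorem isPGroup_zpowers_of_mem {A : Subgroup G} (hA : IsPGroup 2 A) {b : G} (hb : b ∈ A) :
    IsPGroup 2 (zpowers b) := hA.to_le (zpowers_le.2 hb)

theorem isPGroup_zpowers_zz [Finite G] {Om : Set (Subgroup G)} (h : Hyp Om) {K : Subgroup G} (hK : K ∈ Om) :
    IsPGroup 2 (zpowers (zz K)) := by
  refine IsPGroup.of_card (n := 1) ?_
  rw [Nat.card_zpowers, h.orderOf_zz hK, pow_one]

theorem isPGroup_zpowers_mul_self {b : G} (h : IsPGroup 2 (zpowers b)) : IsPGroup 2 (zpowers (b * b)) :=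
  h.to_le (zpowers_le.2 (mul_mem (mem_zpowers b) (mem_zpowers b)))

/-- two commuting 2-elements lie in a 2-group generated by them -/
theorem exists_two_of_commute [Finite G] {a b : G} (ha : IsPGroup 2 (zpowers a)) (hb : IsPGroup 2 (zpowers b))
    (h : a * b = b * a) : IsPGroup 2 (zpowers a ⊔ zpowers b : Subgroup G) := by
  refine isPGroup_sup_of_normalizes ha hb ?_
  rw [zpowers_le]
  apply mem_normalizer_of_cent
  rintro _ ⟨k, rfl⟩
  exact ((show Commute a b from h).zpow_right k).eq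

namespace Perp

theorem conj {b : G} {K : Subgroup G} (h : Perp b K) (g : G) : Perp (g * b * g⁻¹) (cj g K) := by
  obtain ⟨Q, hQ, hb⟩ := h
  refine ⟨cj g Q, hQ.cj g, ?_⟩
  intro x hx
  rw [mem_cj] at hx
  have h1 := hb _ hx
  calc g * b * g⁻¹ * x = g * (b * (g⁻¹ * x * g)) * g⁻¹ := by group
    _ = g * ((g⁻¹ * x * g) * b) * g⁻¹ := by rw [h1]
    _ = _ := by group

theorem of_conj {b : G} {K : Subgroup G} {g : G} (h : Perp (g * b * g⁻¹) (cj g K)) : Perp b K := by
  have h1 := h.conj g⁻¹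
  rw [cj_inv_cj] at h1
  have h2 : g⁻¹ * (g * b * g⁻¹) * g⁻¹⁻¹ = b := by group
  rwa [h2] at h1

/-- conjugation by an element commuting with `b` -/
theorem conj_of_comm {b : G} {K : Subgroup G} (h : Perp b K) {g : G} (hg : g * b = b * g) :
    Perp b (cj g K) := by
  have h1 := h.conj g
  have h2 : g * b * g⁻¹ = b := by rw [hg, mul_inv_cancel_right]
  rwa [h2] at h1

theorem of_conj_of_comm {b : G} {K : Subgroup G} {g : G} (hg : g * b = b * g) (h : Perp b (cj g K)) :
    Perp b K := by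
  apply Perp.of_conj (g := g)
  have h2 : g * b * g⁻¹ = b := by rw [hg, mul_inv_cancel_right]
  rwa [h2]

theorem zpow {b : G} {K : Subgroup G} (h : Perp b K) (k : ℤ) : Perp (b ^ k) K := by
  obtain ⟨Q, hQ, hb⟩ := h
  exact ⟨Q, hQ, fun x hx => ((show Commute b x from hb x hx).zpow_left k).eq⟩

theorem pow {b : G} {K : Subgroup G} (h : Perp b K) (k : ℕ) : Perp (b ^ k) K := by
  have := h.zpow k
  rwa [zpow_natCast] at this

theorem inv {b : G} {K : Subgroup G} (h : Perp b K) : Perp b⁻¹ K := by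
  have := h.zpow (-1)
  rwa [zpow_neg_one] at this

theorem sq {b : G} {K : Subgroup G} (h : Perp b K) : Perp (b * b) K := by
  have := h.pow 2
  rwa [pow_two] at this

theorem one [Finite G] (K : Subgroup G) : Perp (1 : G) K := by
  obtain ⟨Q, hQ⟩ := Hyp.exists_syl K
  exact ⟨Q, hQ, fun x _ => by rw [one_mul, mul_one]⟩

variable [Finite G] {Om : Set (Subgroup G)}

/-- `b ⊥ K` implies that `b` commutes with `zz K` -/
theorem comm {b : G} {K : Subgroup G} (h : Perp b K) (hH : Hyp Om) (hK : K ∈ Om) : b * zz K = zz K * b := by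
  obtain ⟨Q, hQ, hb⟩ := h
  obtain ⟨c, v, n, hc⟩ := hH.exists_gq hK hQ
  exact hb _ hc.z_mem

theorem mem_normalizer {b : G} {K : Subgroup G} (h : Perp b K) (hO : One Om) (hK : K ∈ Om) :
    b ∈ normalizer (K : Set G) := hO.mem_normalizer hK (h.comm hO.hyp hK)

/-- a 2-element `b ⊥ K` centralises every Sylow 2-subgroup of `K` which it normalises -/
theorem cent {b : G} {K Q : Subgroup G} (h : Perp b K) (hO : One Om) (hK : K ∈ Om)
    (hb : IsPGroup 2 (zpowers b)) (hQ : Syl Q K) (hbQ : b ∈ normalizer (Q : Set G)) :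
    ∀ x ∈ Q, b * x = x * b := by
  have h1 := h.mem_normalizer hO hK
  obtain ⟨Q1, hQ1, hb1⟩ := h
  exact hO.hyp.rigid hK hQ1 hQ h1 hb hb1 hbQ

/-- products in a 2-group -/
theorem mul {a b : G} {K T : Subgroup G} (ha : Perp a K) (hb : Perp b K) (hO : One Om) (hK : K ∈ Om)
    (hT : IsPGroup 2 T) (hTK : T ≤ normalizer (K : Set G)) (haT : a ∈ T) (hbT : b ∈ T) : Perp (a * b) K := by
  obtain ⟨Q, hQ, hTQ⟩ := exists_syl_normalized hT hTK
  have h1 := ha.cent hO hK (isPGroup_zpowers_of_mem hT haT) hQ (hTQ haT)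
  have h2 := hb.cent hO hK (isPGroup_zpowers_of_mem hT hbT) hQ (hTQ hbT)
  refine ⟨Q, hQ, fun x hx => ?_⟩
  calc a * b * x = a * (b * x) := by group
    _ = (a * x) * b := by rw [h2 x hx]; group
    _ = x * (a * b) := by rw [h1 x hx]; group

end Perp

section

variable [Finite G] {Om : Set (Subgroup G)}

/-- **(i)** -/
theorem not_perp (h : One Om) {K L : Subgroup G} (hK : K ∈ Om) (hL : L ∈ Om) (hne : K ≠ L) :
    ¬ Perp (zz L) K := by
  rintro ⟨Q, hQ, hc⟩
  exact hne (h.eq_of_cent hK hL hQ hc)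

/-- **(P0)** with the conjugating element -/
theorem exists_swap (h : One Om) {K L : Subgroup G} (hK : K ∈ Om) (hL : L ∈ Om) (hne : K ≠ L)
    (hc : zz K * zz L = zz L * zz K) {A : Subgroup G} (hA : IsPGroup 2 A)
    (hAK : ∀ a ∈ A, Perp a K) (hAL : ∀ a ∈ A, a * zz L = zz L * a) :
    ∃ q ∈ K, q * zz L * q⁻¹ = zz K * zz L ∧ ∀ a ∈ A, a * q = q * a := by
  obtain ⟨T, Q, Q', hAT, p⟩ := h.exists_pair hK hL hne hc hA
    (fun a ha => (hAK a ha).mem_normalizer h hK) (fun a ha => h.mem_normalizer hL (hAL a ha))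
  obtain ⟨q, hq, hq2⟩ := p.exists_swap h
  refine ⟨q, p.hQ.1 hq, hq2, fun a ha => ?_⟩
  exact (hAK a ha).cent h hK (isPGroup_zpowers_of_mem hA ha) p.hQ (p.hTQ (hAT ha)) q hq

/-- **(P0)**: the product of two commuting members -/
theorem exists_mul (h : One Om) {K L : Subgroup G} (hK : K ∈ Om) (hL : L ∈ Om) (hne : K ≠ L)
    (hc : zz K * zz L = zz L * zz K) : ∃ M ∈ Om, zz M = zz K * zz L := by
  obtain ⟨q, -, hq, -⟩ := exists_swap h hK hL hne hc (A := ⊥) IsPGroup.of_bot
    (fun a ha => by rw [mem_bot.1 ha]; exact Perp.one K) (fun a ha => by rw [mem_bot.1 ha]; simp)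
  exact ⟨cj q L, h.hyp.conj L hL q, by rw [h.hyp.zz_cj hL, hq]⟩

/-- `b ⊥ K`, `b ⊥ L` implies `b ⊥ M`, `zz M = zz K * zz L` -/
theorem perp_of_mul (h : One Om) {K L M : Subgroup G} (hK : K ∈ Om) (hL : L ∈ Om) (hM : M ∈ Om) (hne : K ≠ L)
    (hc : zz K * zz L = zz L * zz K) (hMz : zz M = zz K * zz L) {b : G} (hb : IsPGroup 2 (zpowers b))
    (hbK : Perp b K) (hbL : Perp b L) : Perp b M := by
  obtain ⟨q, -, hq, hqb⟩ := exists_swap h hK hL hne hc hb
    (fun a ha => by obtain ⟨k, rfl⟩ := ha; exact hbK.zpow k)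
    (fun a ha => by
      obtain ⟨k, rfl⟩ := ha
      exact ((show Commute b (zz L) from hbL.comm h.hyp hL).zpow_left k).eq)
  have h1 : cj q L = M := by
    apply h.cj_eq hL hM
    rw [hq, hMz]
  rw [← h1]
  exact hbL.conj_of_comm (hqb b (mem_zpowers b)).symm

/-- **KEY** -/
theorem key (h : One Om) {b : G} (hb : IsPGroup 2 (zpowers b)) (h3 : P3 Om b) {K T L : Subgroup G}
    (hK : K ∈ Om) (hT : T ∈ Om) (hL : L ∈ Om) (hbK : Perp b K) (hbT : Perp b T) (hne : K ≠ T)
    (hc : zz K * zz T = zz T * zz K) (hbL : b * zz L = zz L * b)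
    (hKL : zz K * zz L = zz L * zz K) (hTL : zz T * zz L = zz L * zz T) : Perp b L := by
  by_contra hcon
  have hKL' : K ≠ L := by rintro rfl; exact hcon hbK
  have hTL' : T ≠ L := by rintro rfl; exact hcon hbT
  have h1 := (h3 K hK L hL hKL' hKL hbK hbL).resolve_left hcon
  have h2 := (h3 T hT L hL hTL' hTL hbT hbL).resolve_left hcon
  obtain ⟨M, hM, hMz⟩ := exists_mul h hK hT hne hc
  have hML : M ≠ L := by
    rintro rfl
    exact hcon (perp_of_mul h hK hT hM hne hc hMz hb hbK hbT)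
  apply not_perp h hL hM hML.symm
  have hbz : b * zz K = zz K * b := hbK.comm h.hyp hK
  have hbt : b * zz T = zz T * b := hbT.comm h.hyp hT
  -- the 2-group generated by `zz K * b` and `zz T * b`
  have hA1 : IsPGroup 2 (zpowers (zz K) ⊔ zpowers b : Subgroup G) :=
    exists_two_of_commute (isPGroup_zpowers_zz h.hyp hK) hb hbz.symm
  have hA2 : IsPGroup 2 (zpowers (zz T) ⊔ (zpowers (zz K) ⊔ zpowers b) : Subgroup G) := by
    refine isPGroup_sup_of_normalizes (isPGroup_zpowers_zz h.hyp hT) hA1 ?_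
    rw [zpowers_le]
    apply mem_normalizer_of_cent
    have h5 : zpowers (zz K) ⊔ zpowers b ≤ centralizer {zz T} := by
      rw [sup_le_iff, zpowers_le, zpowers_le]
      exact ⟨mem_centralizer_singleton_iff.2 hc, mem_centralizer_singleton_iff.2 hbt⟩
    intro x hx
    exact (mem_centralizer_singleton_iff.1 (h5 hx)).symm
  have hAL : zpowers (zz T) ⊔ (zpowers (zz K) ⊔ zpowers b) ≤ normalizer (L : Set G) := by
    rw [sup_le_iff, sup_le_iff, zpowers_le, zpowers_le, zpowers_le]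
    exact ⟨h.mem_normalizer hL hTL, h.mem_normalizer hL hKL, h.mem_normalizer hL hbL⟩
  have hm1 : zz K * b ∈ zpowers (zz T) ⊔ (zpowers (zz K) ⊔ zpowers b) :=
    mul_mem (mem_sup_right (mem_sup_left (mem_zpowers _))) (mem_sup_right (mem_sup_right (mem_zpowers _)))
  have hm2 : zz T * b ∈ zpowers (zz T) ⊔ (zpowers (zz K) ⊔ zpowers b) :=
    mul_mem (mem_sup_left (mem_zpowers _)) (mem_sup_right (mem_sup_right (mem_zpowers _)))
  have h4 := h1.mul h2.inv h hL hA2 hAL hm1 (inv_mem hm2)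
  have h5 : zz K * b * (zz T * b)⁻¹ = zz M := by
    rw [mul_inv_rev, h.hyp.zz_inv hT, hMz]; group
  rwa [h5] at h4

end

end Cfsg.Agent.Cit.OneF
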