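import Cfsg.Agent.Cit.OneF.LTwo
import Cfsg.Prelude.Def_TwoFusion

/-!
# Theorem F1: the strongly closed subgroup `B(S)`
-/

set_option autoImplicit false
set_option linter.style.haveILetI false
set_option linter.unusedSectionVars false

namespace Cfsg.Agent.Cit.OneF

open Subgroup Cfsg Cit OneBasic

variable {G : Type*} [Group G] [Finite G] {Om : Set (Subgroup G)}

/-- `B(S)`: the elements of `S` centralising Sylow subgroups of all members with involution in `S` -/
def BB (h : One Om) {S : Subgroup G} (hS : IsPGroup 2 S) : Subgroup G where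
  carrier := {b | b ∈ S ∧ ∀ L ∈ Om, zz L ∈ S → Perp b L}
  one_mem' := ⟨S.one_mem, fun L _ _ => Perp.one L⟩
  mul_mem' := by
    rintro a b ⟨ha, ha'⟩ ⟨hb, hb'⟩
    refine ⟨S.mul_mem ha hb, fun L hL hz => ?_⟩
    have h1 := ha' L hL hz
    have h2 := hb' L hL hz
    refine h1.mul h2 h hL (T := S ⊓ normalizer (L : Set G)) (hS.to_le inf_le_left) inf_le_right ?_ ?_
    · exact ⟨ha, h1.mem_normalizer h hL⟩
    · exact ⟨hb, h2.mem_normalizer h hL⟩
  inv_mem' := by
    rintro a ⟨ha, ha'⟩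
    exact ⟨S.inv_mem ha, fun L hL hz => (ha' L hL hz).inv⟩

theorem mem_BB (h : One Om) {S : Subgroup G} (hS : IsPGroup 2 S) {b : G} :
    b ∈ BB h hS ↔ b ∈ S ∧ ∀ L ∈ Om, zz L ∈ S → Perp b L := Iff.rfl

theorem BB_le (h : One Om) {S : Subgroup G} (hS : IsPGroup 2 S) : BB h hS ≤ S := fun _ hb => hb.1

/-- a Sylow 2-subgroup with the central member involution `zz K0` and another one -/
structure Top (Om : Set (Subgroup G)) (S K0 K1 : Subgroup G) : Prop where
  syl : Syl S ⊤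
  h0 : K0 ∈ Om
  h1 : K1 ∈ Om
  ne : K1 ≠ K0
  z0 : zz K0 ∈ S
  z1 : zz K1 ∈ S
  cen : ∀ x ∈ S, x * zz K0 = zz K0 * x

theorem exists_Top (h : One Om) {K L : Subgroup G} (hK : K ∈ Om) (hL : L ∈ Om) (hne : K ≠ L)
    (hc : zz K * zz L = zz L * zz K) : ∃ S K0 K1, Top Om S K0 K1 := by
  have h1 : IsPGroup 2 (zpowers (1 : G)) := by
    rw [zpowers_one_eq_bot]; exact IsPGroup.of_bot
  have htop : (centralizer {(1 : G)} : Subgroup G) = ⊤ := by
    rw [eq_top_iff]
    intro x _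
    rw [mem_centralizer_singleton_iff, one_mul, mul_one]
  obtain ⟨S, hS, hA, -, K0, hK0, hz0, hcen⟩ := exists_top h hK h1 (two_zz h hK hL hc)
    (by rw [htop]; exact le_top)
  rw [htop] at hS
  have hzK : zz K ∈ S := hA (mem_sup_left (mem_zpowers _))
  have hzL : zz L ∈ S := hA (mem_sup_right (mem_zpowers _))
  by_cases hKK : K = K0
  · subst hKK
    exact ⟨S, K, L, hS, hK0, hL, hne.symm, hz0, hzL, hcen⟩
  · exact ⟨S, K0, K, hS, hK0, hK, hKK, hz0, hzK, hcen⟩

namespace Top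

variable {S K0 K1 : Subgroup G}

theorem two (t : Top Om S K0 K1) : IsPGroup 2 S := t.syl.2.1

theorem WW_of_mem (t : Top Om S K0 K1) (h : One Om) {b : G} (hb : b ∈ BB h t.two) : WW Om b := by
  refine ⟨K0, t.h0, K1, t.h1, t.ne.symm, (t.cen _ t.z1).symm, hb.2 _ t.h0 t.z0, hb.2 _ t.h1 t.z1⟩

theorem mem_of_WW (t : Top Om S K0 K1) (h : One Om) (hL1 : L1 Om) {b : G} (hb : b ∈ S) (hw : WW Om b) :
    b ∈ BB h t.two :=
  ⟨hb, fun _ hL hz => hw.perp' h hL1 t.two hb hL hz⟩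

/-- **`B(S)` is strongly closed** -/
theorem stronglyClosed (t : Top Om S K0 K1) (h : One Om) (hL1 : L1 Om) :
    IsStronglyClosed (BB h t.two) S :=
  ⟨BB_le h t.two, fun _ hb g hg => t.mem_of_WW h hL1 hg ((t.WW_of_mem h hb).conj h.hyp g)⟩

/-- a 2-subgroup is conjugate into `S` -/
theorem exists_conj_le (t : Top Om S K0 K1) {A : Subgroup G} (hA : IsPGroup 2 A) : ∃ g, cj g A ≤ S := by
  obtain ⟨R, hR, hAR⟩ := exists_syl_ge hA (le_top : A ≤ ⊤)
  obtain ⟨g, -, hg⟩ := hR.exists_conj t.syl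
  exact ⟨g, by rw [← hg]; exact cj_mono g hAR⟩

/-- if `B(S) = 1` then no 2-element `≠ 1` centralises Sylow subgroups of two commuting members -/
theorem eq_one_of_WW (t : Top Om S K0 K1) (h : One Om) (hL1 : L1 Om) (hB : BB h t.two = ⊥) {b : G}
    (hb : IsPGroup 2 (zpowers b)) (hw : WW Om b) : b = 1 := by
  obtain ⟨g, hg⟩ := t.exists_conj_le hb
  have h1 : g * b * g⁻¹ ∈ S := hg (conj_mem_cj (mem_zpowers b))
  have h2 := t.mem_of_WW h hL1 h1 (hw.conj h.hyp g)
  rw [hB, mem_bot] at h2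
  calc b = g⁻¹ * (g * b * g⁻¹) * g := by group
    _ = 1 := by rw [h2]; group

/-! ### The centraliser of `B(S)` -/

/-- every member whose involution centralises `B(S)` is centralised by `B(S)` up to Sylow -/
theorem perp (t : Top Om S K0 K1) (h : One Om) (hL1 : L1 Om) {L : Subgroup G} (hL : L ∈ Om)
    (hz : zz L ∈ centralizer (BB h t.two : Set G)) {b : G} (hb : b ∈ BB h t.two) : Perp b L :=
  (t.WW_of_mem h hb).perp h hL1 (isPGroup_zpowers_of_mem t.two hb.1) hL (mem_centralizer_iff.1 hz b hb)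

/-- `B(S)` centralises a Sylow 2-subgroup of such a member -/
theorem exists_syl_cent (t : Top Om S K0 K1) (h : One Om) (hL1 : L1 Om) {L : Subgroup G} (hL : L ∈ Om)
    (hz : zz L ∈ centralizer (BB h t.two : Set G)) :
    ∃ Q, Syl Q L ∧ Q ≤ centralizer (BB h t.two : Set G) := by
  have h1 : BB h t.two ≤ normalizer (L : Set G) := fun b hb => (t.perp h hL1 hL hz hb).mem_normalizer h hL
  obtain ⟨Q, hQ, hBQ⟩ := exists_syl_normalized (t.two.to_le (BB_le h t.two)) h1
  refine ⟨Q, hQ, fun q hq => ?_⟩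
  rw [mem_centralizer_iff]
  intro b hb
  exact (t.perp h hL1 hL hz hb).cent h hL (isPGroup_zpowers_of_mem t.two (BB_le h t.two hb)) hQ (hBQ hb) q hq

theorem zz_mem (t : Top Om S K0 K1) (h : One Om) {L : Subgroup G} (hL : L ∈ Om) (hz : zz L ∈ S) :
    zz L ∈ centralizer (BB h t.two : Set G) := by
  rw [mem_centralizer_iff]
  intro b hb
  exact (hb.2 L hL hz).comm h.hyp hL

end Top

end Cfsg.Agent.Cit.OneF
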